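import Cfsg.Agent.Lib.Golay.Code

/-!
Binary masks as exponent vectors over commuting involutions.
-/

set_option autoImplicit false

namespace Cfsg.Agent.Lib.Co1Mult.Bits

open Cfsg.Agent.Lib.Golay (combine combine_xor combine_zero)

/-- The sum of a list of masks. -/
def xorAll (l : List ℕ) : ℕ := l.foldr (· ^^^ ·) 0

theorem combine_single : ∀ (rs : List ℕ) (i : ℕ), combine rs (2 ^ i) = rs.getD i 0
  | [], i => by simp [combine]
  | r :: rs, 0 => by simp [combine, combine_zero]
  | r :: rs, i + 1 => by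
    have h2 : 2 ^ (i + 1) % 2 = 0 := by rw [pow_succ, Nat.mul_mod_left]
    have h1 : 2 ^ (i + 1) / 2 = 2 ^ i := by rw [pow_succ, Nat.mul_div_cancel _ (by norm_num)]
    simp [combine, h1, h2, combine_single rs i]

theorem combine_lt (rs : List ℕ) {n : ℕ} (h : ∀ r ∈ rs, r < 2 ^ n) : ∀ k, combine rs k < 2 ^ n := by
  induction rs with
  | nil => intro k; simp [combine]
  | cons r rs ih =>
    intro k
    simp only [combine]
    refine Nat.xor_lt_two_pow ?_ (ih (fun x hx => h x (List.mem_cons_of_mem _ hx)) _)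
    split_ifs
    · exact h r (List.mem_cons_self ..)
    · exact Nat.two_pow_pos n

/-- A property of all masks below `2 ^ n` from the units and sums. -/
theorem xor_induction {P : ℕ → Prop} : ∀ {n : ℕ}, P 0 → (∀ i < n, P (2 ^ i)) →
    (∀ a b, a < 2 ^ n → b < 2 ^ n → P a → P b → P (a ^^^ b)) → ∀ k < 2 ^ n, P k
  | 0, h0, _, _, k, hk => by
    obtain rfl : k = 0 := by simpa using hk
    exact h0
  | n + 1, h0, h1, hx, k, hk => by
    have hle : 2 ^ n ≤ 2 ^ (n + 1) := Nat.pow_le_pow_right (by norm_num) n.le_succ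
    have ih := xor_induction (n := n) h0 (fun i hi => h1 i (by omega))
      (fun a b ha hb => hx a b (lt_of_lt_of_le ha hle) (lt_of_lt_of_le hb hle))
    by_cases hb : k < 2 ^ n
    · exact ih k hb
    · have hlow : k ^^^ 2 ^ n < 2 ^ n := by
        refine Nat.lt_pow_two_of_testBit _ fun j hj => ?_
        rw [Nat.testBit_xor, Nat.testBit_two_pow]
        rcases eq_or_lt_of_le hj with rfl | hj'
        · obtain ⟨c, rfl⟩ := Nat.le.dest (not_lt.1 hb)
          have hc : c < 2 ^ n := by rw [pow_succ] at hk; omega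
          rw [Nat.testBit_two_pow_add_eq, Nat.testBit_lt_two_pow hc]
          simp
        · rw [Nat.testBit_lt_two_pow (lt_of_lt_of_le hk (Nat.pow_le_pow_right (by norm_num) hj'))]
          simp [Nat.ne_of_lt hj']
      have := hx _ _ (lt_of_lt_of_le hlow hle) (Nat.pow_lt_pow_right (by norm_num) n.lt_succ_self)
        (ih _ hlow) (h1 n n.lt_succ_self)
      rwa [Nat.xor_assoc, Nat.xor_self, Nat.xor_zero] at this

section
variable {A : Type*} [Monoid A] (f : ℕ → A)

/-- The product of the values at the binary digits `1` below `n`. -/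
def ev : ℕ → ℕ → A
  | 0, _ => 1
  | n + 1, k => ev n k * (if k.testBit n then f n else 1)

theorem ev_zero : ∀ n, ev f n 0 = 1
  | 0 => rfl
  | n + 1 => by simp [ev, ev_zero n]

theorem ev_congr : ∀ {n : ℕ} {a b : ℕ}, (∀ i < n, a.testBit i = b.testBit i) → ev f n a = ev f n b
  | 0, _, _, _ => rfl
  | n + 1, a, b, h => by
    rw [ev, ev, ev_congr fun i hi => h i (by omega), h n (by omega)]

theorem ev_mod (n k : ℕ) : ev f n (k % 2 ^ n) = ev f n k :=
  ev_congr f fun i hi => by rw [Nat.testBit_mod_two_pow, decide_eq_true hi, Bool.true_and]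

theorem ev_single : ∀ n i, ev f n (2 ^ i) = if i < n then f i else 1
  | 0, i => by simp [ev]
  | n + 1, i => by
    rw [ev, ev_single n i, Nat.testBit_two_pow]
    rcases lt_trichotomy i n with h | rfl | h
    · simp [h, Nat.ne_of_lt h, Nat.lt_succ_of_lt h]
    · simp
    · simp [not_lt.2 h.le, Nat.ne_of_gt h, show ¬ i < n + 1 by omega]

theorem ev_mem (S : Submonoid A) : ∀ {n : ℕ} (k : ℕ), (∀ i < n, f i ∈ S) → ev f n k ∈ S
  | 0, _, _ => S.one_mem
  | n + 1, k, h => by
    rw [ev]
    refine S.mul_mem (ev_mem S k fun i hi => h i (by omega)) ?_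
    split_ifs
    · exact h n (by omega)
    · exact S.one_mem

theorem commute_ev {x : A} : ∀ {n : ℕ} (k : ℕ), (∀ i < n, Commute x (f i)) → Commute x (ev f n k)
  | 0, _, _ => Commute.one_right x
  | n + 1, k, h => by
    rw [ev]
    refine (commute_ev k fun i hi => h i (by omega)).mul_right ?_
    split_ifs
    · exact h n (by omega)
    · exact Commute.one_right x

theorem ev_xor : ∀ {n : ℕ} (a b : ℕ), (∀ i < n, ∀ j < n, Commute (f i) (f j)) →
    (∀ i < n, f i * f i = 1) → ev f n (a ^^^ b) = ev f n a * ev f n b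
  | 0, _, _, _, _ => (one_mul 1).symm
  | n + 1, a, b, hc, h2 => by
    have hcn : Commute (f n) (ev f n b) := commute_ev f b fun i hi => hc n (by omega) i (by omega)
    rw [ev, ev, ev, ev_xor a b (fun i hi j hj => hc i (by omega) j (by omega))
      (fun i hi => h2 i (by omega)), Nat.testBit_xor]
    cases a.testBit n <;> cases b.testBit n <;> simp only [Bool.false_eq_true, if_false, if_true,
      mul_one, bne_self_eq_false, Bool.false_bne, Bool.bne_false]
    · rw [mul_assoc]
    · rw [mul_assoc (ev f n a) (f n), hcn.eq, mul_assoc]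
    · rw [mul_assoc (ev f n a), ← mul_assoc (f n), hcn.eq, mul_assoc (ev f n b), h2 n (by omega),
        mul_one]

theorem ev_xorAll {n : ℕ} (hc : ∀ i < n, ∀ j < n, Commute (f i) (f j)) (h2 : ∀ i < n, f i * f i = 1) :
    ∀ l : List ℕ, (∀ m ∈ l, ev f n m = 1) → ev f n (xorAll l) = 1
  | [], _ => ev_zero f n
  | m :: l, h => by
    show ev f n (m ^^^ xorAll l) = 1
    rw [ev_xor f m _ hc h2, h m (List.mem_cons_self ..),
      ev_xorAll hc h2 l fun x hx => h x (List.mem_cons_of_mem _ hx), one_mul]

end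

end Cfsg.Agent.Lib.Co1Mult.Bits
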