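import Cfsg.Agent.Lib.Co1Mult.Diag
import Cfsg.Agent.Lib.Schur.Fusion
import Cfsg.Agent.Lib.Multiplier.Basic
import Cfsg.Agent.S2038

/-!
The monomial subgroup `2 ^ 12 : M₂₄` has a trivial multiplier: in a stem extension of the whole group the
sign changes lift to an elementary abelian normal subgroup meeting the kernel trivially.
-/

set_option autoImplicit false

namespace Cfsg.Agent.Lib.Co1Mult.Cross

open Cfsg Cfsg.Agent.Lib.Leech
open Cfsg.Agent.Lib.Golay (combine)
open Cfsg.Agent.Lib.Co1Mult.Bits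
open Cfsg.Agent.Lib.Schur
open scoped commutatorElement

/-- The number of a pair of rows. -/
def pairIdx (i j : ℕ) : ℕ := pairs.idxOf (min i j, max i j)

/-- The pairings of a row with the rows. -/
def pairRow (i : ℕ) : List ℕ :=
  (List.range 12).map fun j => if Nat.beq i j then 0 else 2 ^ pairIdx i j

/-- The pairing of two messages as a sum of units. -/
def pairMask (v w : ℕ) : ℕ := combine ((List.range 12).map fun i => combine (pairRow i) w) v

/-- The mask of an equation on pairings. -/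
def pairEq (e : ℕ) : ℕ :=
  let d := pairEqs.getD e (0, 0, 0)
  pairMask ((row d.1).getD d.2.1 0) ((row d.1).getD d.2.2 0) ^^^ pairMask (2 ^ d.2.1) (2 ^ d.2.2)

theorem pairs_ok : (((List.range 12).all fun i => (List.range 12).all fun j => Nat.beq i j ||
      (Nat.blt (pairIdx i j) 66 && pairs.getD (pairIdx i j) (0, 0) == (min i j, max i j))) &&
    ((List.range 66).all fun k => Nat.blt (pairs.getD k (0, 0)).1 12 && Nat.blt (pairs.getD k (0, 0)).2 12) &&
    ((List.range pairEqs.length).all fun e => Nat.blt (pairEqs.getD e (0, 0, 0)).1 3 &&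
      Nat.blt (pairEqs.getD e (0, 0, 0)).2.1 12 && Nat.blt (pairEqs.getD e (0, 0, 0)).2.2 12) &&
    ((List.range 66).all fun k => (pairCombos.getD k []).all (fun e => Nat.blt e pairEqs.length) &&
      Nat.beq (xorAll ((pairCombos.getD k []).map pairEq)) (2 ^ k))) = true := by
  decide +kernel

/-- One letter of a word on a message and a sum of discrepancies. -/
def wstep (s : ℕ) (q : ℕ × ℕ) : ℕ × ℕ := (move s q.1, q.2 ^^^ (q.1 % 4096) <<< (12 * s))

/-- A word on a message. -/
def wrun (w : List ℕ) (v : ℕ) : ℕ × ℕ := w.foldr wstep (v, 0)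

/-- The mask of an equation on discrepancies. -/
def liftEq (e : ℕ) : ℕ := (wrun (rels.getD (liftEqs.getD e (0, 0)).1 []) (2 ^ (liftEqs.getD e (0, 0)).2)).2

theorem lift_ok : (((List.range liftEqs.length).all fun e =>
      Nat.blt (liftEqs.getD e (0, 0)).1 rels.length && Nat.blt (liftEqs.getD e (0, 0)).2 12 &&
      Nat.beq (wrun (rels.getD (liftEqs.getD e (0, 0)).1 []) (2 ^ (liftEqs.getD e (0, 0)).2)).1
        (2 ^ (liftEqs.getD e (0, 0)).2)) &&
    ((List.range 3).all fun s => (List.range 12).all fun i =>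
      (liftCombos.getD (12 * s + i) []).all (fun e => Nat.blt e liftEqs.length) &&
      Nat.beq (xorAll ((liftCombos.getD (12 * s + i) []).map liftEq))
        (2 ^ (12 * s + i) ^^^ (eta.getD i 0 ^^^ combine eta ((row s).getD i 0))))) = true := by
  decide +kernel

theorem commutator_M24 : commutator M24 = ⊤ := by
  have := Golay.isSimple_M24
  rcases (inferInstance : (commutator M24).Normal).eq_bot_or_eq_top with h | h
  · exfalso
    have hm : ⁅gen 0, gen 1⁆ ∈ commutator M24 :=
      Subgroup.commutator_mem_commutator (Subgroup.mem_top _) (Subgroup.mem_top _)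
    rw [h, Subgroup.mem_bot, commutatorElement_eq_one_iff_mul_comm] at hm
    have e : Golay.gperm (wordCode [0, 1]) = Golay.gperm (wordCode [1, 0]) := by
      rw [gperm_wordCode, gperm_wordCode]
      simp [hm]
    have e2 := congrArg (fun g : Equiv.Perm GolayPt => Golay.idx (g (Golay.pt 0))) e
    simp only [Golay.idx_gperm (okCode_wordCode _)] at e2
    exact absurd e2 (by decide +kernel)
  · exact h

section
variable {Γ : Type} [Group Γ] [Finite Γ]

theorem mem_normalizer {S : Subgroup Γ} {g : Γ} (h : ∀ x ∈ S, g * x * g⁻¹ ∈ S) :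
    g ∈ Subgroup.normalizer (S : Set Γ) := by
  have h1 : S.map (MulAut.conj g).toMonoidHom ≤ S := by
    rintro _ ⟨x, hx, rfl⟩; exact h x hx
  have h2 : S.map (MulAut.conj g).toMonoidHom = S := Subgroup.eq_of_le_of_card_ge h1
    (by rw [Subgroup.card_map_of_injective (MulAut.conj g).injective])
  rw [Subgroup.mem_normalizer_iff]
  intro x
  refine ⟨h x, fun hx => ?_⟩
  have hx' : g * x * g⁻¹ ∈ S.map (MulAut.conj g).toMonoidHom := h2.symm ▸ hx
  obtain ⟨y, hy, e⟩ := hx'
  obtain rfl : y = x := (MulAut.conj g).injective e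
  exact hy

variable {σ : Γ →* Co0}

/-- In a stem extension the preimage of the sign changes is abelian. -/
theorem comm_preimage (hσ : IsStemExtension σ) :
    ∀ a ∈ LeechMod2.Frame.diag.comap σ, ∀ b ∈ LeechMod2.Frame.diag.comap σ, a * b = b * a := by
  have hk := hσ.2.1
  choose L hL using fun i : ℕ => hσ.1 (dg (2 ^ i))
  let pv : ℕ → Γ := ev L 12
  have hpv : ∀ k < 2 ^ 12, σ (pv k) = dg k := by
    intro k hk'
    have key : ∀ n, σ (ev L n k) = dg (k % 2 ^ n) := by
      intro n
      induction n with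
      | zero => simp [ev, Nat.mod_one, dg_zero]
      | succ n ih =>
        have hx : k % 2 ^ (n + 1) = (k % 2 ^ n) ^^^ (if k.testBit n then 2 ^ n else 0) := by
          refine Nat.eq_of_testBit_eq fun j => ?_
          rw [Nat.testBit_xor, Nat.testBit_mod_two_pow, Nat.testBit_mod_two_pow]
          split_ifs with hb
          · rw [Nat.testBit_two_pow]
            rcases lt_trichotomy j n with h | rfl | h
            · simp [h, Nat.lt_succ_of_lt h, Nat.ne_of_gt h]
            · simp [hb]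
            · simp [not_lt.2 h.le, show ¬ j < n + 1 by omega, Nat.ne_of_lt h]
          · rw [Nat.zero_testBit]
            rcases lt_trichotomy j n with h | rfl | h
            · simp [h, Nat.lt_succ_of_lt h]
            · simp at hb; simp [hb]
            · simp [not_lt.2 h.le, show ¬ j < n + 1 by omega]
        rw [ev, map_mul, ih, hx, dg_xor]
        split_ifs <;> simp [hL, dg_zero]
    rw [key, Nat.mod_eq_of_lt hk']
  -- the pairing of the rows
  have hcm : ∀ a b : Γ, σ a ∈ LeechMod2.Frame.diag → σ b ∈ LeechMod2.Frame.diag →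
      Commute (σ a) (σ b) ∧ σ b ^ 2 = 1 := by
    intro a b ha hb
    obtain ⟨k, -, hka⟩ := exists_dg ha
    obtain ⟨l, -, hlb⟩ := exists_dg hb
    rw [hka, hlb, pow_two]
    exact ⟨dg_comm k l, dg_sq l⟩
  have hLd : ∀ i, σ (L i) ∈ LeechMod2.Frame.diag := fun i => (hL i).symm ▸ dg_mem _
  have hpvd : ∀ k < 2 ^ 12, σ (pv k) ∈ LeechMod2.Frame.diag := fun k hk' => (hpv k hk').symm ▸ dg_mem _
  have hsq : ∀ a b : Γ, σ a ∈ LeechMod2.Frame.diag → σ b ∈ LeechMod2.Frame.diag →
      ⁅a, b⁆ * ⁅a, b⁆ = 1 := fun a b ha hb => by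
    rw [← pow_two]
    exact Fusion.commutator_pow_eq_one hk (hcm a b ha hb).1 (hcm a b ha hb).2
  have hinv : ∀ a b : Γ, σ a ∈ LeechMod2.Frame.diag → σ b ∈ LeechMod2.Frame.diag → ⁅b, a⁆ = ⁅a, b⁆ :=
    fun a b ha hb => by rw [← commutatorElement_inv a b, inv_eq_of_mul_eq_one_right (hsq a b ha hb)]
  let c : ℕ → Γ := fun k => ⁅L (pairs.getD k (0, 0)).1, L (pairs.getD k (0, 0)).2⁆
  have hcc : ∀ i < 66, ∀ j < 66, Commute (c i) (c j) := fun i _ j _ =>
    ((Subgroup.mem_center_iff.1 (Fusion.central_of_commute hk (hcm _ _ (hLd _) (hLd _)).1)) (c j)).symm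
  have hc2 : ∀ i < 66, c i * c i = 1 := fun i _ => hsq _ _ (hLd _) (hLd _)
  have hok := pairs_ok
  simp only [Bool.and_eq_true, List.all_eq_true, List.mem_range, Nat.blt_eq, Nat.beq_eq, Bool.or_eq_true,
    beq_iff_eq] at hok
  obtain ⟨⟨⟨hidx, -⟩, heq⟩, hcombo⟩ := hok
  have hrow : ∀ i < 12, ∀ w < 2 ^ 12, ⁅L i, pv w⁆ = ev c 66 (combine (pairRow i) w) := by
    intro i hi
    refine xor_induction ?_ (fun j hj => ?_) (fun a b ha hb iha ihb => ?_)
    · rw [Golay.combine_zero, ev_zero]
      show ⁅L i, ev L 12 0⁆ = 1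
      rw [ev_zero, commutatorElement_one_right]
    · rw [combine_single, pairRow, List.getD_eq_getElem _ _ (by simpa using hj), List.getElem_map,
        List.getElem_range]
      show ⁅L i, ev L 12 (2 ^ j)⁆ = _
      rw [ev_single, if_pos hj]
      split_ifs with hij
      · rw [Nat.beq_eq] at hij
        rw [hij, commutatorElement_self, ev_zero]
      · obtain ⟨hlt, hp⟩ := (hidx i hi j hj).resolve_left (fun h => hij (by rw [Nat.beq_eq]; exact h))
        rw [ev_single, if_pos hlt]
        simp only [c, hp]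
        rcases le_total i j with h | h
        · rw [min_eq_left h, max_eq_right h]
        · rw [min_eq_right h, max_eq_left h, hinv _ _ (hLd j) (hLd i)]
    · rw [Golay.combine_xor, ev_xor c _ _ hcc hc2, ← iha, ← ihb,
        ← Fusion.commutator_mul_right hk (hcm _ _ (hLd i) (hpvd _ hb)).1]
      exact Fusion.commutator_congr hk rfl (by
        rw [map_mul, hpv _ ha, hpv _ hb, hpv _ (Nat.xor_lt_two_pow ha hb), dg_xor])
  have hpair : ∀ v < 2 ^ 12, ∀ w < 2 ^ 12, ⁅pv v, pv w⁆ = ev c 66 (pairMask v w) := by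
    intro v hv w hw
    revert v
    refine xor_induction ?_ (fun i hi => ?_) (fun a b ha hb iha ihb => ?_)
    · rw [pairMask, Golay.combine_zero, ev_zero]
      show ⁅ev L 12 0, pv w⁆ = 1
      rw [ev_zero, commutatorElement_one_left]
    · rw [pairMask, combine_single, List.getD_eq_getElem _ _ (by simpa using hi), List.getElem_map,
        List.getElem_range, ← hrow i hi w hw]
      show ⁅ev L 12 (2 ^ i), pv w⁆ = _
      rw [ev_single, if_pos hi]
    · have hab := Nat.xor_lt_two_pow ha hb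
      rw [pairMask, Golay.combine_xor, ev_xor c _ _ hcc hc2, ← pairMask, ← pairMask, ← iha, ← ihb,
        ← hinv _ _ (hpvd _ hab) (hpvd _ hw), ← hinv _ _ (hpvd _ ha) (hpvd _ hw),
        ← hinv _ _ (hpvd _ hb) (hpvd _ hw),
        ← Fusion.commutator_mul_right hk (hcm _ _ (hpvd _ hw) (hpvd _ hb)).1]
      exact Fusion.commutator_congr hk rfl (by rw [map_mul, hpv _ ha, hpv _ hb, hpv _ hab, dg_xor])
  have hzero : ∀ k < 66, c k = 1 := by
    intro k hk'
    obtain ⟨hlen, he⟩ := hcombo k hk'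
    have h1 := ev_single c 66 k
    rw [if_pos hk'] at h1
    rw [← h1, ← he]
    refine ev_xorAll c hcc hc2 _ fun m hm => ?_
    obtain ⟨e, hem, rfl⟩ := List.mem_map.1 hm
    obtain ⟨⟨hs, hi⟩, hj⟩ := heq e (hlen e hem)
    simp only [pairEq]
    generalize (pairEqs.getD e (0, 0, 0)).1 = s, (pairEqs.getD e (0, 0, 0)).2.1 = i,
      (pairEqs.getD e (0, 0, 0)).2.2 = j at hs hi hj
    have li : (2 : ℕ) ^ i < 2 ^ 12 := Nat.pow_lt_pow_right (by norm_num) hi
    have lj : (2 : ℕ) ^ j < 2 ^ 12 := Nat.pow_lt_pow_right (by norm_num) hj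
    obtain ⟨G, hG⟩ := hσ.1 (permHom (gen s))
    rw [ev_xor c _ _ hcc hc2, ← hpair _ (row_lt hs hi) _ (row_lt hs hj), ← hpair _ li _ lj]
    have e : ⁅pv ((row s).getD i 0), pv ((row s).getD j 0)⁆ = ⁅pv (2 ^ i), pv (2 ^ j)⁆ := by
      refine Fusion.commutator_conj hk (n := G) (hcm _ _ (hpvd _ li) (hpvd _ lj)).1 ?_ ?_
      · rw [hpv _ (row_lt hs hi), hpv _ li, hG, conj_dg hs, move_single hi]
      · rw [hpv _ (row_lt hs hj), hpv _ lj, hG, conj_dg hs, move_single hj]
    rw [e]
    exact hsq _ _ (hpvd _ li) (hpvd _ lj)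
  refine Fusion.comap_comm_of_pairwise hk (T := L '' Set.Iio 12) ?_ ?_
  · intro g hg
    obtain ⟨k, hk', rfl⟩ := exists_dg hg
    rw [← hpv k hk', ← MonoidHom.map_closure]
    refine Subgroup.mem_map_of_mem σ ?_
    exact ev_mem L (Subgroup.closure (L '' Set.Iio 12)).toSubmonoid k fun i hi =>
      Subgroup.subset_closure ⟨i, hi, rfl⟩
  · rintro _ ⟨i, hi, rfl⟩ _ ⟨j, hj, rfl⟩
    refine commutatorElement_eq_one_iff_mul_comm.1 ?_
    have lj : (2 : ℕ) ^ j < 2 ^ 12 := Nat.pow_lt_pow_right (by norm_num) hj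
    have h := hrow i hi _ lj
    rw [show pv (2 ^ j) = L j from (ev_single L 12 j).trans (if_pos hj)] at h
    rw [h]
    have h0 : ∀ {n}, n ≤ 66 → ev c n (combine (pairRow i) (2 ^ j)) = 1 := by
      intro n
      induction n with
      | zero => intro _; rfl
      | succ n ih => intro hn; rw [ev, ih (by omega), hzero n (by omega)]; simp
    exact h0 le_rfl

end

theorem killsPart_two : Fusion.KillsPart 2 crossGroup := by
  intro Γ _ _ σ hσ z hz _ hzc
  have hk := hσ.2.1
  have hcen : ∀ x ∈ σ.ker, ∀ g : Γ, g * x = x * g := fun x hx g => Subgroup.mem_center_iff.1 (hk hx) g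
  set A : Subgroup Γ := LeechMod2.Frame.diag.comap σ with hA
  have hcomm := comm_preimage hσ
  -- lifts of exponent two
  let A2 : Subgroup Γ :=
    { carrier := {x | x ∈ A ∧ x * x = 1}
      one_mem' := ⟨one_mem _, mul_one 1⟩
      mul_mem' := fun {x y} hx hy => ⟨mul_mem hx.1 hy.1, by
        rw [mul_assoc, ← mul_assoc y, hcomm y hy.1 x hx.1, mul_assoc x, hy.2, mul_one, hx.2]⟩
      inv_mem' := fun {x} hx => ⟨inv_mem hx.1, by rw [← mul_inv_rev, hx.2, inv_one]⟩ }
  choose G hG using fun s : ℕ => hσ.1 (permHom (gen s))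
  have hGA : ∀ s < 3, ∀ a ∈ A, G s * a * (G s)⁻¹ ∈ A := fun s hs a ha => by
    obtain ⟨k, -, hk'⟩ := exists_dg (show σ a ∈ LeechMod2.Frame.diag from ha)
    show σ _ ∈ LeechMod2.Frame.diag
    rw [map_mul, map_mul, map_inv, hG, hk', conj_dg hs]
    exact dg_mem _
  choose L₀ hL₀ using fun i : ℕ => hσ.1 (dg (2 ^ i))
  have hmv : ∀ s < 3, ∀ i < 12, G s * L₀ i * (G s)⁻¹ * (L₀ i)⁻¹ ∈ A2 := fun s hs i hi => by
    have hLA : L₀ i ∈ A := by show σ _ ∈ LeechMod2.Frame.diag; rw [hL₀]; exact dg_mem _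
    refine ⟨mul_mem (hGA s hs _ hLA) (inv_mem hLA), ?_⟩
    have hsqc : L₀ i * L₀ i ∈ σ.ker := by rw [MonoidHom.mem_ker, map_mul, hL₀, dg_sq]
    have e := hcomm _ (inv_mem hLA) _ (hGA s hs _ hLA)
    calc G s * L₀ i * (G s)⁻¹ * (L₀ i)⁻¹ * (G s * L₀ i * (G s)⁻¹ * (L₀ i)⁻¹)
        = G s * L₀ i * (G s)⁻¹ * ((L₀ i)⁻¹ * (G s * L₀ i * (G s)⁻¹)) * (L₀ i)⁻¹ := by group
      _ = G s * (L₀ i * L₀ i) * (G s)⁻¹ * (L₀ i * L₀ i)⁻¹ := by rw [e]; group
      _ = 1 := by rw [hcen _ hsqc]; group
  have hlift : ∀ k, dg k ∈ A2.map σ := dg_mem_of_moves _ fun s hs i hi => by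
    refine ⟨_, hmv s hs i hi, ?_⟩
    rw [map_mul, map_mul, map_mul, map_inv, map_inv, hG, hL₀, conj_dg hs, move_single hi, dg_xor,
      inv_eq_of_mul_eq_one_right (dg_sq (2 ^ i))]
  choose L hLmem hL using fun i : ℕ => Subgroup.mem_map.1 (hlift (2 ^ i))
  let pv : ℕ → Γ := ev L 12
  have hpA2 : ∀ k, pv k ∈ A2 := fun k => ev_mem L A2.toSubmonoid k fun i _ => hLmem i
  have hAc : ∀ {f : ℕ → Γ}, (∀ i, f i ∈ A2) → ∀ {n : ℕ}, (∀ i < n, ∀ j < n, Commute (f i) (f j)) ∧
      (∀ i < n, f i * f i = 1) :=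
    fun hf => ⟨fun i _ j _ => hcomm _ (hf i).1 _ (hf j).1, fun i _ => (hf i).2⟩
  have hpx : ∀ a b, pv (a ^^^ b) = pv a * pv b := fun a b =>
    ev_xor L a b (hAc hLmem).1 (hAc hLmem).2
  have hp0 : pv 0 = 1 := ev_zero L 12
  have hps : ∀ i < 12, pv (2 ^ i) = L i := fun i hi => (ev_single L 12 i).trans (if_pos hi)
  have hpmod : ∀ k, pv (k % 4096) = pv k := ev_mod L 12
  have hpv : ∀ k, σ (pv k) = dg k := by
    have main : ∀ k < 2 ^ 12, σ (pv k) = dg k := by
      refine xor_induction (by rw [hp0, map_one, dg_zero]) (fun i hi => ?_) (fun a b _ _ ha hb => ?_)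
      · rw [hps i hi, hL]
      · rw [hpx, map_mul, ha, hb, dg_xor]
    intro k
    rw [← hpmod, main (k % 4096) (Nat.mod_lt k (by norm_num : 4096 > 0)), dg_mod]
  -- discrepancies
  have hGA2 : ∀ s < 3, ∀ a ∈ A2, G s * a * (G s)⁻¹ ∈ A2 := fun s hs a ha => ⟨hGA s hs a ha.1, by
    calc G s * a * (G s)⁻¹ * (G s * a * (G s)⁻¹) = G s * (a * a) * (G s)⁻¹ := by group
      _ = 1 := by rw [ha.2]; group⟩
  let ζ : ℕ → Γ := fun k =>
    if k < 36 then G (k / 12) * L (k % 12) * (G (k / 12))⁻¹ * (pv ((row (k / 12)).getD (k % 12) 0))⁻¹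
    else 1
  have hζA2 : ∀ k, ζ k ∈ A2 := fun k => by
    simp only [ζ]
    split_ifs with h
    · exact mul_mem (hGA2 _ (by omega) _ (hLmem _)) (inv_mem (hpA2 _))
    · exact one_mem _
  have hζker : ∀ k, ζ k ∈ σ.ker := fun k => by
    simp only [ζ, MonoidHom.mem_ker]
    split_ifs with h
    · rw [map_mul, map_mul, map_mul, map_inv, map_inv, hG, hpv, hL,
        conj_dg (by omega), move_single (Nat.mod_lt _ (by norm_num)), mul_inv_cancel]
    · exact map_one σ
  have hevker : ∀ m, ev ζ 36 m ∈ σ.ker := fun m => ev_mem ζ σ.ker.toSubmonoid m fun i _ => hζker i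
  have hζx : ∀ a b, ev ζ 36 (a ^^^ b) = ev ζ 36 a * ev ζ 36 b := fun a b =>
    ev_xor ζ a b (hAc hζA2).1 (hAc hζA2).2
  have hshift : ∀ s < 3, ∀ i < 12, ev ζ 36 ((2 ^ i) <<< (12 * s)) = ζ (12 * s + i) := fun s hs i hi => by
    rw [Nat.shiftLeft_eq, ← pow_add, ev_single, if_pos (by omega), add_comm]
  have hconj : ∀ s < 3, ∀ v, G s * pv v * (G s)⁻¹ = ev ζ 36 ((v % 4096) <<< (12 * s)) * pv (move s v) := by
    intro s hs
    have main : ∀ v < 2 ^ 12, G s * pv v * (G s)⁻¹ = ev ζ 36 (v <<< (12 * s)) * pv (move s v) := by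
      refine xor_induction ?_ (fun i hi => ?_) (fun a b _ _ ha hb => ?_)
      · rw [move_zero, hp0, Nat.zero_shiftLeft, ev_zero, mul_one, mul_inv_cancel, one_mul]
      · rw [hshift s hs i hi, move_single hi, hps i hi]
        simp only [ζ, if_pos (show 12 * s + i < 36 by omega), show (12 * s + i) / 12 = s by omega,
          show (12 * s + i) % 12 = i by omega, inv_mul_cancel_right]
      · rw [hpx, Nat.shiftLeft_xor_distrib, hζx, move_xor, hpx]
        calc G s * (pv a * pv b) * (G s)⁻¹ = (G s * pv a * (G s)⁻¹) * (G s * pv b * (G s)⁻¹) := by group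
          _ = _ := by
            rw [ha, hb]
            simp only [mul_assoc]
            rw [← mul_assoc (pv (move s a)), hcen _ (hevker _), mul_assoc]
    intro v
    rw [← hpmod v, main (v % 4096) (Nat.mod_lt v (by norm_num : 4096 > 0))]
    simp only [move, Nat.mod_mod]
  have hword : ∀ w : List ℕ, (∀ s ∈ w, s < 3) → ∀ v, ∀ W : Γ, W = (w.map G).prod →
      W * pv v * W⁻¹ = ev ζ 36 (wrun w v).2 * pv (wrun w v).1 := by
    intro w
    induction w with
    | nil => intro _ v W hW; subst hW; simp [wrun, ev_zero]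
    | cons s w ih =>
      intro hw v W hW
      have h := ih (fun t ht => hw t (List.mem_cons_of_mem _ ht)) v _ rfl
      subst hW
      rw [List.map_cons, List.prod_cons, wrun, List.foldr_cons]
      show _ = ev ζ 36 (wstep s (wrun w v)).2 * pv (wstep s (wrun w v)).1
      calc G s * (w.map G).prod * pv v * (G s * (w.map G).prod)⁻¹
          = G s * ((w.map G).prod * pv v * (w.map G).prod⁻¹) * (G s)⁻¹ := by group
        _ = ev ζ 36 (wrun w v).2 * (G s * pv (wrun w v).1 * (G s)⁻¹) := by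
          rw [h]
          have := hcen _ (hevker (wrun w v).2) (G s)
          simp only [mul_assoc]
          rw [← mul_assoc (G s), this, mul_assoc]
        _ = _ := by rw [hconj s (hw s (List.mem_cons_self ..)), wstep, hζx, mul_assoc]
  have hok := lift_ok
  simp only [Bool.and_eq_true, List.all_eq_true, List.mem_range, Nat.blt_eq, Nat.beq_eq] at hok
  obtain ⟨heq, hcombo⟩ := hok
  have hcob : ∀ s < 3, ∀ i < 12,
      ev ζ 36 (2 ^ (12 * s + i) ^^^ (eta.getD i 0 ^^^ combine eta ((row s).getD i 0))) = 1 := by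
    intro s hs i hi
    obtain ⟨hlen, he⟩ := hcombo s hs i hi
    rw [← he]
    refine ev_xorAll ζ (hAc hζA2).1 (hAc hζA2).2 _ fun m hm => ?_
    obtain ⟨e, hem, rfl⟩ := List.mem_map.1 hm
    obtain ⟨⟨hr, hrow⟩, hfix⟩ := heq e (hlen e hem)
    simp only [liftEq]
    generalize (liftEqs.getD e (0, 0)).1 = r, (liftEqs.getD e (0, 0)).2 = j at hr hrow hfix
    have hrmem : rels.getD r [] ∈ rels := by
      rw [List.getD_eq_getElem _ _ hr]; exact List.getElem_mem _
    obtain ⟨hprod, hlt⟩ := rel_spec hrmem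
    have hW : ((rels.getD r []).map G).prod ∈ σ.ker := by
      rw [MonoidHom.mem_ker, map_list_prod, List.map_map,
        show (σ : Γ → Co0) ∘ G = (permHom : M24 → Co0) ∘ gen from funext hG, ← List.map_map,
        ← map_list_prod, hprod, map_one]
    have h := hword _ hlt (2 ^ j) _ rfl
    rw [hfix, ← hcen _ hW (pv (2 ^ j)), mul_inv_cancel_right] at h
    exact mul_eq_right.1 h.symm
  -- the normal complement
  let L' : ℕ → Γ := fun i => ev ζ 36 (eta.getD i 0) * L i
  have hevA2 : ∀ m, ev ζ 36 m ∈ A2 := fun m => ev_mem ζ A2.toSubmonoid m fun i _ => hζA2 i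
  have hL'A2 : ∀ i, L' i ∈ A2 := fun i => mul_mem (hevA2 _) (hLmem i)
  let qv : ℕ → Γ := ev L' 12
  have hqx : ∀ a b, qv (a ^^^ b) = qv a * qv b := fun a b =>
    ev_xor L' a b (hAc hL'A2).1 (hAc hL'A2).2
  have hqσ : ∀ k, σ (qv k) = dg k := by
    have main : ∀ k < 2 ^ 12, σ (qv k) = dg k := by
      refine xor_induction (by rw [show qv 0 = 1 from ev_zero L' 12, map_one, dg_zero]) (fun i hi => ?_)
        (fun a b _ _ ha hb => ?_)
      · rw [show qv (2 ^ i) = L' i from (ev_single L' 12 i).trans (if_pos hi), map_mul,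
          MonoidHom.mem_ker.1 (hevker _), one_mul, hL]
      · rw [hqx, map_mul, ha, hb, dg_xor]
    intro k
    rw [show qv k = qv (k % 4096) from (ev_mod L' 12 k).symm,
      main (k % 4096) (Nat.mod_lt k (by norm_num : 4096 > 0)), dg_mod]
  have hqp : ∀ v < 2 ^ 12, qv v = ev ζ 36 (combine eta v) * pv v := by
    refine xor_induction ?_ (fun i hi => ?_) (fun a b _ _ ha hb => ?_)
    · rw [Golay.combine_zero, ev_zero, hp0, one_mul]; exact ev_zero L' 12
    · rw [combine_single, hps i hi]; exact (ev_single L' 12 i).trans (if_pos hi)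
    · rw [hqx, ha, hb, Golay.combine_xor, hζx, hpx]
      simp only [mul_assoc]
      rw [← mul_assoc (pv a), hcen _ (hevker _), mul_assoc]
  let E0 : Subgroup Γ :=
    { carrier := Set.range qv
      one_mem' := ⟨0, ev_zero L' 12⟩
      mul_mem' := by rintro _ _ ⟨a, rfl⟩ ⟨b, rfl⟩; exact ⟨a ^^^ b, hqx a b⟩
      inv_mem' := by
        rintro _ ⟨a, rfl⟩
        exact ⟨a, (inv_eq_of_mul_eq_one_right (by
          rw [← hqx, Nat.xor_self]; exact ev_zero L' 12)).symm⟩ }
  have hnG : ∀ s < 3, G s ∈ Subgroup.normalizer (E0 : Set Γ) := by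
    intro s hs
    refine mem_normalizer ?_
    rintro _ ⟨v, rfl⟩
    refine ⟨move s v, ?_⟩
    have main : ∀ v < 2 ^ 12, G s * qv v * (G s)⁻¹ = qv (move s v) := by
      refine xor_induction ?_ (fun i hi => ?_) (fun a b _ _ ha hb => ?_)
      · rw [move_zero, show qv 0 = 1 from ev_zero L' 12, mul_one, mul_inv_cancel]
      · have hc := hcob s hs i hi
        rw [hζx, ev_single, if_pos (show 12 * s + i < 36 by omega), hζx] at hc
        rw [move_single hi, hqp _ (row_lt hs hi)]
        show G s * ev L' 12 (2 ^ i) * (G s)⁻¹ = _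
        rw [ev_single, if_pos hi]
        simp only [L']
        have e1 : G s * L i * (G s)⁻¹ = ζ (12 * s + i) * pv ((row s).getD i 0) := by
          simp only [ζ, if_pos (show 12 * s + i < 36 by omega), show (12 * s + i) / 12 = s by omega,
            show (12 * s + i) % 12 = i by omega, inv_mul_cancel_right]
        rw [show G s * (ev ζ 36 (eta.getD i 0) * L i) * (G s)⁻¹ =
            ev ζ 36 (eta.getD i 0) * (G s * L i * (G s)⁻¹) by
          rw [← mul_assoc (G s), hcen _ (hevker _)]; group, e1, ← mul_assoc]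
        refine congrArg (· * _) ?_
        rw [← mul_assoc] at hc
        rw [hcen _ (hζker _), eq_comm, ← inv_eq_of_mul_eq_one_right hc,
          inv_eq_of_mul_eq_one_right]
        have h2 : ∀ x ∈ A2, x * x = 1 := fun x hx => hx.2
        exact h2 _ (mul_mem (hζA2 _) (hevA2 _))
      · rw [hqx, move_xor, hqx, ← ha, ← hb]; group
    rw [show qv v = qv (v % 4096) from (ev_mod L' 12 v).symm,
      main (v % 4096) (Nat.mod_lt v (by norm_num : 4096 > 0)), move, move, Nat.mod_mod]
  have hkerN : σ.ker ≤ Subgroup.normalizer (E0 : Set Γ) := fun x hx => mem_normalizer fun e he => by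
    rw [← hcen x hx e, mul_inv_cancel_right]; exact he
  have hAN : A ≤ Subgroup.normalizer (E0 : Set Γ) := fun x hx => mem_normalizer fun e he => by
    obtain ⟨v, rfl⟩ := he
    rw [hcomm x hx (qv v) (by show σ _ ∈ LeechMod2.Frame.diag; rw [hqσ]; exact dg_mem _),
      mul_inv_cancel_right]
    exact ⟨v, rfl⟩
  set M : Subgroup Γ := permHom.range.comap σ with hM
  have hperm : permHom.range ≤ (Subgroup.normalizer (E0 : Set Γ)).map σ := by
    rw [MonoidHom.range_eq_map, ← closure_gen, MonoidHom.map_closure, Subgroup.closure_le]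
    rintro _ ⟨_, ⟨s, rfl⟩, rfl⟩
    by_cases hs : s < 3
    · exact ⟨G s, hnG s hs, hG s⟩
    · refine ⟨G 0, hnG 0 (by norm_num), ?_⟩
      rw [hG]
      refine congrArg permHom (Subtype.ext (congrArg Golay.gperm ?_))
      rcases s with _ | _ | _ | s
      all_goals first | omega | rfl
  have hMN : M ≤ Subgroup.normalizer (E0 : Set Γ) := fun x hx => by
    obtain ⟨n, hn, hnx⟩ := hperm hx
    have : n⁻¹ * x ∈ σ.ker := by rw [MonoidHom.mem_ker, map_mul, map_inv, hnx, inv_mul_cancel]
    have := mul_mem hn (hkerN this)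
    rwa [mul_inv_cancel_left] at this
  set D : Subgroup Γ := ⁅M, M⁆ with hD
  have hDM : D ≤ M := by
    refine Subgroup.commutator_le.2 fun a ha b hb => ?_
    exact mul_mem (mul_mem (mul_mem ha hb) (inv_mem ha)) (inv_mem hb)
  -- the derived group of the preimage
  set T : Set Γ := (E0 : Set Γ) ∪ (M : Set Γ) with hT
  have hpre : crossGroup.comap σ ≤ Subgroup.closure T := by
    intro x hx
    obtain ⟨d, hd, π, hdπ⟩ := LeechMod2.Frame.exists_split hx
    obtain ⟨k, -, rfl⟩ := exists_dg hd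
    have hmem : (qv k)⁻¹ * x ∈ M := by
      show σ _ ∈ permHom.range
      rw [map_mul, map_inv, hqσ, hdπ, inv_mul_cancel_left]
      exact ⟨π, rfl⟩
    have h1 : qv k ∈ T := Or.inl ⟨k, rfl⟩
    have h2 : (qv k)⁻¹ * x ∈ T := Or.inr hmem
    have := mul_mem (Subgroup.subset_closure h1) (Subgroup.subset_closure h2)
    rwa [mul_inv_cancel_left] at this
  have hED : ∀ e ∈ E0, ∀ d ∈ M, ⁅e, d⁆ ∈ E0 := fun e he d hd => by
    rw [commutatorElement_def, mul_assoc, mul_assoc, ← mul_assoc d]
    exact mul_mem he ((Subgroup.mem_normalizer_iff.1 (hMN hd) _).1 (inv_mem he))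
  have hcl : ⁅Subgroup.closure T, Subgroup.closure T⁆ ≤ E0 ⊔ D := by
    refine Fusion.commutator_closure_le T _ ?_ ?_
    · intro t ht x hx
      have hle : E0 ⊔ D ≤ (E0 ⊔ D).comap (MulAut.conj t).toMonoidHom := by
        refine sup_le (fun e he => ?_) (fun d hd => ?_)
        · refine Subgroup.mem_sup_left ?_
          show t * e * t⁻¹ ∈ E0
          rcases ht with ht | ht
          · exact mul_mem (mul_mem ht he) (inv_mem ht)
          · exact (Subgroup.mem_normalizer_iff.1 (hMN ht) e).1 he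
        · show t * d * t⁻¹ ∈ E0 ⊔ D
          rcases ht with ht | ht
          · rw [show t * d * t⁻¹ = ⁅t, d⁆ * d by rw [commutatorElement_def]; group]
            exact mul_mem (Subgroup.mem_sup_left (hED t ht d (hDM hd))) (Subgroup.mem_sup_right hd)
          · rw [show t * d * t⁻¹ = ⁅t, d⁆ * d by rw [commutatorElement_def]; group]
            exact Subgroup.mem_sup_right
              (mul_mem (Subgroup.commutator_mem_commutator ht (hDM hd)) hd)
      exact hle hx
    · intro s hs t ht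
      rcases hs with hs | hs <;> rcases ht with ht | ht
      · exact Subgroup.mem_sup_left
          (mul_mem (mul_mem (mul_mem hs ht) (inv_mem hs)) (inv_mem ht))
      · exact Subgroup.mem_sup_left (hED s hs t ht)
      · rw [← commutatorElement_inv]; exact inv_mem (Subgroup.mem_sup_left (hED t ht s hs))
      · exact Subgroup.mem_sup_right (Subgroup.commutator_mem_commutator hs ht)
  have hzED : z ∈ E0 ⊔ D := hcl (Subgroup.commutator_mono hpre hpre hzc)
  have hDN : D ≤ Subgroup.normalizer (E0 : Set Γ) := hDM.trans hMN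
  rw [← SetLike.mem_coe, Subgroup.coe_mul_of_right_le_normalizer_left E0 D hDN] at hzED
  obtain ⟨e, he, d, hd, rfl⟩ := hzED
  have he1 : σ e ∈ LeechMod2.Frame.diag := by
    obtain ⟨v, rfl⟩ := he
    rw [hqσ]; exact dg_mem _
  obtain ⟨π, hπ⟩ : σ d ∈ permHom.range := hDM hd
  have hz' : σ e * σ d = 1 := by rw [← map_mul]; exact hz
  have hπ1 : π = 1 := LeechMod2.Frame.eq_one_of_permHom_mem_diag (by
    rw [hπ, eq_inv_of_mul_eq_one_right hz']; exact inv_mem he1)
  have hd1 : d ∈ σ.ker := by rw [MonoidHom.mem_ker, ← hπ, hπ1, map_one]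
  have he0 : e = 1 := by
    obtain ⟨v, rfl⟩ := he
    have h1 : dg v = 1 := by
      rw [← hqσ]; rwa [MonoidHom.mem_ker.1 hd1, mul_one] at hz'
    have hv : v % 4096 = 0 := dg_inj (Nat.mod_lt _ (by norm_num)) (by norm_num)
      (by rw [dg_mod, dg_zero, h1])
    show ev L' 12 v = 1
    rw [← ev_mod L' 12 v, show (2 : ℕ) ^ 12 = 4096 by norm_num, hv, ev_zero]
  show e * d = 1
  rw [he0, one_mul]
  -- the code group has a trivial multiplier
  let φ : M →* M24 :=
    (MonoidHom.ofInjective permHom_injective).symm.toMonoidHom.comp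
      ((σ.comp M.subtype).codRestrict permHom.range fun x => x.2)
  have hφ : ∀ x : M, permHom (φ x) = σ x := fun x =>
    congrArg Subtype.val ((MonoidHom.ofInjective permHom_injective).apply_symm_apply
      ⟨σ x, x.2⟩)
  have hφker : φ.ker ≤ Subgroup.center M := fun x hx => by
    have hx' : (x : Γ) ∈ σ.ker := by rw [MonoidHom.mem_ker, ← hφ, MonoidHom.mem_ker.1 hx, map_one]
    exact Subgroup.mem_center_iff.2 fun y => Subtype.ext (hcen _ hx' y)
  have hφs : Function.Surjective φ := fun π => by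
    obtain ⟨x, hx⟩ := hσ.1 (permHom π)
    refine ⟨⟨x, show σ x ∈ permHom.range from ⟨π, hx.symm⟩⟩, permHom_injective ?_⟩
    rw [hφ]; exact hx
  have hmap : (commutator M).map φ = ⊤ := by
    rw [_root_.commutator_def, Subgroup.map_commutator, ← MonoidHom.range_eq_map,
      MonoidHom.range_eq_top.2 hφs, ← _root_.commutator_def, commutator_M24]
  have hperf : commutator (commutator M) = ⊤ := by
    refine Subgroup.map_injective (commutator M).subtype_injective ?_
    rw [Subgroup.map_subtype_commutator, ← MonoidHom.range_eq_map, Subgroup.range_subtype]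
    refine le_antisymm (Subgroup.commutator_le_self _) ?_
    refine Multiplier.commutator_le_of_sup_central _ φ.ker hφker ?_
    rw [← Subgroup.comap_map_eq, hmap, Subgroup.comap_top]
  have hinj := Multiplier.injective_of_trivial Cfsg.Agent.S2038.result (φ.comp (commutator M).subtype)
    ⟨fun π => by
      obtain ⟨x, hx, rfl⟩ : π ∈ (commutator M).map φ := by rw [hmap]; trivial
      exact ⟨⟨x, hx⟩, rfl⟩,
    fun x hx => Subgroup.mem_center_iff.2 fun y =>
      Subtype.ext (Subgroup.mem_center_iff.1 (hφker (x := (x : M)) hx) y),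
    by rw [hperf]; exact le_top⟩
  have hDc : D = (commutator M).map M.subtype := (Subgroup.map_subtype_commutator M).symm
  obtain ⟨x, hx, rfl⟩ := (hDc ▸ hd : d ∈ (commutator M).map M.subtype)
  have : (⟨x, hx⟩ : commutator M) = 1 := hinj (by
    rw [map_one]
    refine permHom_injective ?_
    rw [map_one]
    show permHom (φ x) = 1
    rw [hφ]; exact hd1)
  show (x : Γ) = 1
  rw [show x = 1 from congrArg Subtype.val this]
  rfl

end Cfsg.Agent.Lib.Co1Mult.Cross
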