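import Cfsg.Agent.Lib.Co1Mult.Bits
import Cfsg.Agent.Lib.Co1Mult.CrossData
import Cfsg.Agent.Lib.LeechMod2.Frame
import Cfsg.Agent.Lib.Golay.M24

/-!
Sign changes numbered by the messages of the code, and the three generators of the code group on them.
-/

set_option autoImplicit false

namespace Cfsg.Agent.Lib.Co1Mult.Cross

open Cfsg Cfsg.Agent.Lib.Leech Cfsg.Agent.Lib.GolayUnique
open Cfsg.Agent.Lib.Golay (enc inCode setOfMask inCode_enc wordOfMask_mem combine)
open Cfsg.Agent.Lib.Co1Mult.Bits
open Cfsg.Agent.Lib.Computation (mulP)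
open scoped Pointwise commutatorElement

theorem isCode_of_inCode {m : ℕ} (h : inCode m = true) : IsCode (setOfMask m) := by
  rw [isCode_iff, ← Golay.support₂_wordOfMask, ind_support₂]
  exact wordOfMask_mem h

/-- The sign change on the code word with a given message. -/
noncomputable def dg (k : ℕ) : Co0 :=
  Leech.flip (setOfMask (enc (k % 4096))) (isCode_of_inCode (inCode_enc (Nat.mod_lt _ (by norm_num))))

theorem flip_eightE {c : Finset GolayPt} (hc : IsCode c) (i : GolayPt) :
    Leech.flip c hc • eightE i = if i ∈ c then -eightE i else eightE i := by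
  rw [Leech.flip, monomial_apply_eightE, Equiv.Perm.one_apply]

theorem dg_eightE (k : ℕ) (i : GolayPt) :
    dg k • eightE i = if i ∈ setOfMask (enc (k % 4096)) then -eightE i else eightE i :=
  flip_eightE _ i

theorem dg_xor (a b : ℕ) : dg (a ^^^ b) = dg a * dg b := by
  refine co0_ext fun i => ?_
  have e : enc ((a ^^^ b) % 4096) = enc (a % 4096) ^^^ enc (b % 4096) := by
    rw [← Golay.enc_xor (Nat.mod_lt _ (by norm_num)) (Nat.mod_lt _ (by norm_num))]
    exact congrArg enc (Nat.xor_mod_two_pow (n := 12))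
  rw [mul_smul, dg_eightE, dg_eightE]
  simp only [Golay.mem_setOfMask, e, Nat.testBit_xor]
  cases ha : (enc (a % 4096)).testBit (Golay.idx i) <;> cases h : (enc (b % 4096)).testBit (Golay.idx i) <;>
    simp [ha, smul_neg', dg_eightE]

theorem dg_mem (k : ℕ) : dg k ∈ LeechMod2.Frame.diag := LeechMod2.Frame.flip_mem_diag _ _

theorem dg_zero : dg 0 = 1 := by
  have h := dg_xor 0 0
  rw [Nat.xor_self] at h
  exact mul_left_cancel (h.symm.trans (mul_one _).symm)

theorem dg_sq (k : ℕ) : dg k * dg k = 1 := by rw [← dg_xor, Nat.xor_self, dg_zero]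

theorem dg_comm (a b : ℕ) : Commute (dg a) (dg b) := by
  show _ * _ = _ * _
  rw [← dg_xor, ← dg_xor, Nat.xor_comm]

theorem dg_mod (k : ℕ) : dg (k % 4096) = dg k := by
  simp only [dg, Nat.mod_mod]

theorem dg_inj {a b : ℕ} (ha : a < 4096) (hb : b < 4096) (h : dg a = dg b) : a = b := by
  have hs : setOfMask (enc a) = setOfMask (enc b) := by
    ext i
    have e := congrArg (fun g : Co0 => vec (g • eightE i) i) h
    simp only [dg_eightE, Nat.mod_eq_of_lt ha, Nat.mod_eq_of_lt hb] at e
    by_cases h1 : i ∈ setOfMask (enc a) <;> by_cases h2 : i ∈ setOfMask (enc b) <;>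
      simp [h1, h2, eightE, vec] at e ⊢
  rw [← Golay.enc_mod ha, ← Golay.enc_mod hb,
    Golay.setOfMask_injOn (Golay.enc_lt ha) (Golay.enc_lt hb) hs]

theorem exists_dg {g : Co0} (hg : g ∈ LeechMod2.Frame.diag) : ∃ k < 4096, g = dg k := by
  let f : Fin 4096 → LeechMod2.Frame.diag := fun k => ⟨dg k, dg_mem k⟩
  have hf : Function.Bijective f := (Nat.bijective_iff_injective_and_card f).2
    ⟨fun a b h => Fin.ext (dg_inj a.isLt b.isLt (congrArg Subtype.val h)),
      by rw [LeechMod2.Frame.card_diag, Nat.card_fin]⟩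
  obtain ⟨k, hk⟩ := hf.2 ⟨g, hg⟩
  exact ⟨k, k.isLt, (congrArg Subtype.val hk).symm⟩

/-- The codes of the three generators. -/
def code (s : ℕ) : ℕ := [Golay.shiftCode, Golay.invCode, Golay.twistCode].getD s Golay.shiftCode

theorem inM24_code (s : ℕ) : Golay.inM24 (code s) = true := by
  obtain ⟨h1, h2, h3⟩ := Golay.inM24_gens
  rcases s with _ | _ | _ | s
  · exact h1
  · exact h2
  · exact h3
  · exact h1

/-- The generators. -/
noncomputable def gen (s : ℕ) : M24 := ⟨Golay.gperm (code s), Golay.gperm_mem_M24 (inM24_code s)⟩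

theorem closure_gen : Subgroup.closure (Set.range gen) = ⊤ := by
  refine Subgroup.map_injective M24.subtype_injective ?_
  refine le_antisymm (Subgroup.map_mono le_top) ?_
  rw [← MonoidHom.range_eq_map, Subgroup.range_subtype, MonoidHom.map_closure]
  refine Golay.closure_gens_eq.ge.trans ?_
  rw [Golay.genGroup, Golay.shift_eq, Golay.projInv_eq, Golay.cubeTwist_eq]
  refine Subgroup.closure_mono ?_
  rintro x (rfl | rfl | rfl)
  exacts [⟨gen 0, ⟨0, rfl⟩, rfl⟩, ⟨gen 1, ⟨1, rfl⟩, rfl⟩, ⟨gen 2, ⟨2, rfl⟩, rfl⟩]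

/-- The images of the units under a generator. -/
def row (s : ℕ) : List ℕ := tab.getD s []

/-- The image of a message. -/
def move (s k : ℕ) : ℕ := combine (row s) (k % 4096)

theorem tab_ok : ((List.range 3).all fun s => (List.range 12).all fun i =>
    Nat.blt ((row s).getD i 0) 4096 &&
      Nat.beq (Golay.permMask (code s) (enc (2 ^ i))) (enc ((row s).getD i 0))) = true := by
  decide +kernel

theorem row_lt {s : ℕ} (hs : s < 3) {i : ℕ} (hi : i < 12) : (row s).getD i 0 < 4096 := by
  have h := List.all_eq_true.1 (List.all_eq_true.1 tab_ok s (List.mem_range.2 hs)) i (List.mem_range.2 hi)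
  simp only [Bool.and_eq_true, Nat.blt_eq] at h
  exact h.1

theorem move_single {s i : ℕ} (hi : i < 12) : move s (2 ^ i) = (row s).getD i 0 := by
  rw [move, Nat.mod_eq_of_lt (Nat.pow_lt_pow_right (by norm_num) hi : 2 ^ i < 4096), combine_single]

theorem move_xor (s a b : ℕ) : move s (a ^^^ b) = move s a ^^^ move s b := by
  rw [move, move, move, ← Golay.combine_xor]
  exact congrArg _ (Nat.xor_mod_two_pow (n := 12))

theorem move_zero (s : ℕ) : move s 0 = 0 := Golay.combine_zero _

theorem permHom_flip {σ : M24} {c d : Finset GolayPt} (hc : IsCode c) (hd : IsCode d)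
    (h : ∀ p, (σ : Equiv.Perm GolayPt) p ∈ d ↔ p ∈ c) :
    permHom σ * Leech.flip c hc = Leech.flip d hd * permHom σ := by
  refine co0_ext fun i => ?_
  rw [mul_smul, mul_smul, flip_eightE, permHom_eightE, flip_eightE]
  by_cases hi : i ∈ c
  · rw [if_pos hi, if_pos ((h i).2 hi), smul_neg', permHom_eightE]
  · rw [if_neg hi, if_neg (fun h' => hi ((h i).1 h')), permHom_eightE]

theorem conj_dg {s : ℕ} (hs : s < 3) (k : ℕ) :
    permHom (gen s) * dg k * (permHom (gen s))⁻¹ = dg (move s k) := by
  have main : ∀ k < 2 ^ 12, permHom (gen s) * dg k * (permHom (gen s))⁻¹ = dg (move s k) := by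
    refine xor_induction ?_ (fun i hi => ?_) (fun a b _ _ ha hb => ?_)
    · rw [move_zero, dg_zero, mul_one, mul_inv_cancel]
    · have h := List.all_eq_true.1 (List.all_eq_true.1 tab_ok s (List.mem_range.2 hs)) i
        (List.mem_range.2 hi)
      simp only [Bool.and_eq_true, Nat.blt_eq, Nat.beq_eq] at h
      rw [move_single hi, mul_inv_eq_iff_eq_mul, dg, dg]
      refine permHom_flip _ _ fun p => ?_
      have h2 : (2 : ℕ) ^ i % 4096 = 2 ^ i :=
        Nat.mod_eq_of_lt (Nat.pow_lt_pow_right (by norm_num) hi : 2 ^ i < 4096)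
      simp only [h2, Nat.mod_eq_of_lt h.1]
      rw [← h.2, ← Golay.smul_setOfMask (Golay.okCode_of_inM24 (inM24_code s))]
      exact Finset.smul_mem_smul_finset_iff _
    · rw [dg_xor, move_xor, dg_xor, ← ha, ← hb]
      group
  rw [← dg_mod k, main (k % 4096) (Nat.mod_lt k (by norm_num : 4096 > 0))]
  rw [move, move, Nat.mod_mod]

/-- The code of a word. -/
def wordCode (w : List ℕ) : ℕ := w.foldr (fun s c => mulP 24 5 (code s) c) Golay.oneCode

theorem okCode_wordCode : ∀ w, Golay.okCode (wordCode w) = true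
  | [] => Golay.okCode_oneCode
  | s :: w => Golay.okCode_mulP (Golay.okCode_of_inM24 (inM24_code s)) (okCode_wordCode w)

theorem gperm_wordCode : ∀ w, Golay.gperm (wordCode w) = ((w.map gen).prod : M24)
  | [] => Golay.gperm_oneCode
  | s :: w => by
    show Golay.gperm (mulP 24 5 (code s) (wordCode w)) = _
    rw [Golay.gperm_mul (Golay.okCode_of_inM24 (inM24_code s)) (okCode_wordCode w), gperm_wordCode w,
      List.map_cons, List.prod_cons, Subgroup.coe_mul]
    rfl

theorem rels_ok : (rels.all fun w => Nat.beq (wordCode w) Golay.oneCode && w.all fun s => Nat.blt s 3) = true := by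
  decide +kernel

theorem rel_spec {w : List ℕ} (hw : w ∈ rels) : (w.map gen).prod = 1 ∧ ∀ s ∈ w, s < 3 := by
  have h := List.all_eq_true.1 rels_ok w hw
  simp only [Bool.and_eq_true, Nat.beq_eq, List.all_eq_true, Nat.blt_eq] at h
  exact ⟨Subtype.ext (by rw [← gperm_wordCode, h.1, Golay.gperm_oneCode]; rfl), h.2⟩

theorem moves_ok : ((moves.all fun d => Nat.blt d.1 3 && Nat.blt d.2 12) &&
    (List.range 12).all fun k => (moveCombos.getD k []).all (fun e => Nat.blt e moves.length) &&
      Nat.beq (xorAll ((moveCombos.getD k []).map fun e =>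
        (row (moves.getD e (0, 0)).1).getD (moves.getD e (0, 0)).2 0 ^^^ 2 ^ (moves.getD e (0, 0)).2))
        (2 ^ k)) = true := by
  decide +kernel

/-- The sign changes are generated by the differences of a row and its images. -/
theorem dg_mem_of_moves (S : Subgroup Co0)
    (h : ∀ s < 3, ∀ i < 12, dg ((row s).getD i 0 ^^^ 2 ^ i) ∈ S) (k : ℕ) : dg k ∈ S := by
  have hok := moves_ok
  simp only [Bool.and_eq_true, List.all_eq_true, List.mem_range, Nat.blt_eq, Nat.beq_eq] at hok
  have hall : ∀ l : List ℕ, (∀ m ∈ l, dg m ∈ S) → dg (xorAll l) ∈ S := by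
    intro l
    induction l with
    | nil => intro _; exact dg_zero ▸ one_mem S
    | cons a l ih =>
      intro hl
      show dg (a ^^^ xorAll l) ∈ S
      rw [dg_xor]
      exact mul_mem (hl a (List.mem_cons_self ..)) (ih fun m hm => hl m (List.mem_cons_of_mem _ hm))
  have main : ∀ k < 2 ^ 12, dg k ∈ S := by
    refine xor_induction (dg_zero ▸ one_mem S) (fun i hi => ?_) (fun a b _ _ ha hb => dg_xor a b ▸ mul_mem ha hb)
    obtain ⟨hlen, he⟩ := hok.2 i hi
    rw [← he]
    refine hall _ fun m hm => ?_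
    obtain ⟨e, hem, rfl⟩ := List.mem_map.1 hm
    obtain ⟨h1, h2⟩ := hok.1 (moves.getD e (0, 0)) (by
      rw [List.getD_eq_getElem _ _ (hlen e hem)]; exact List.getElem_mem _)
    exact h _ h1 _ h2
  rw [← dg_mod]
  exact main _ (Nat.mod_lt _ (by norm_num))

/-- The automorphism group of the lattice is perfect. -/
theorem perfect_co0 : commutator Co0 = ⊤ := by
  refine eq_top_of_flips _ fun c hc => ?_
  obtain ⟨k, -, hk⟩ := exists_dg (LeechMod2.Frame.flip_mem_diag c hc)
  rw [hk]
  refine dg_mem_of_moves _ (fun s hs i hi => ?_) k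
  rw [dg_xor, ← move_single hi, ← conj_dg hs]
  have h : (dg (2 ^ i))⁻¹ = dg (2 ^ i) := inv_eq_of_mul_eq_one_right (dg_sq _)
  have : permHom (gen s) * dg (2 ^ i) * (permHom (gen s))⁻¹ * dg (2 ^ i) =
      ⁅permHom (gen s), dg (2 ^ i)⁆ := by rw [commutatorElement_def, h]
  rw [this]
  exact Subgroup.commutator_mem_commutator (Subgroup.mem_top _) (Subgroup.mem_top _)

end Cfsg.Agent.Lib.Co1Mult.Cross
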