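import Cfsg.Agent.Lib.Co1Mult.Odd

/-!
The part at five.
-/

set_option autoImplicit false

namespace Cfsg.Agent.Lib.Co1Mult.Odd

open Cfsg Cfsg.Agent.Lib.Schur Cfsg.Agent.Lib.Co3Model
open Cfsg.Agent.Lib.Co1Mult.Words Cfsg.Agent.Lib.Co1Mult.OddData
open scoped commutatorElement

theorem five_ok : (invOk 5 3 v5 t5 && complOk 5 3 v5 t5 a5 expA5 &&
    (List.range 3).all fun i => eqW (s5 ++ v5.getD i []) (rep 2 (v5.getD i []) ++ s5)) = true := by
  decide +kernel

theorem five_orbit : (orbitOk 5 v5 sep5 && orbitOk 5 [a5] sepA5) = true := by decide +kernel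

theorem exists_five : ∃ P : Subgroup Co0, ¬ 5 ∣ P.index ∧ Fusion.KillsPart 5 P := by
  have h := five_ok
  simp only [Bool.and_eq_true, List.all_eq_true, List.mem_range] at h
  obtain ⟨⟨h1, h2⟩, hs⟩ := h
  obtain ⟨htt, hv5, hvc, htv⟩ := inv_spec (by norm_num) h1
  obtain ⟨ha5, hta, hav⟩ := compl_spec h2
  have ho := five_orbit
  simp only [Bool.and_eq_true] at ho
  let v : Fin 3 → Co0 := fun i => wordElt (v5.getD i [])
  have hgen : ∀ x ∈ Set.range v, ∀ y ∈ Set.range v, Commute x y := by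
    rintro _ ⟨i, rfl⟩ _ ⟨j, rfl⟩; exact hvc i j
  have hgp : ∀ x ∈ Set.range v, x ^ 5 = 1 := by rintro _ ⟨i, rfl⟩; exact hv5 i
  refine ⟨Subgroup.closure (Set.range v ∪ {wordElt a5}), ?_,
    Split.killsPart_split (by norm_num) (by decide) v _ (wordElt t5) hv5 hvc (fun i j _ => ?_) htt htv
      ?_ ?_ ?_ ?_⟩
  · rw [Subgroup.closure_union, ← Subgroup.zpowers_eq_closure]
    refine index_of_split (n := 3) (m := 1) (by norm_num) (by decide) (t := wordElt t5)
      (isPGroup_closure hgen hgp) (Split.closure_pow hgen hgp) ?_ ?_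
      (Split.conj_closure_inv hgen (by rintro _ ⟨i, rfl⟩; exact htv i)) ?_
      (pow_le_card ho.1 _ ?_) (pow_le_card ho.2 _ ?_) (by rw [Leech.card_co0]; decide +kernel)
    · exact fun x => ⟨1, Subtype.ext (by
        obtain ⟨i, hi⟩ := Subgroup.mem_zpowers_iff.1 x.2
        rw [SubmonoidClass.coe_pow, ← hi, pow_one, ← zpow_natCast, ← zpow_mul, mul_comm, zpow_mul,
          zpow_natCast, ha5, one_zpow]
        rfl)⟩
    · intro q hq
      have hle := Subgroup.zpowers_le.2 (Split.mem_normalizer (Γ := Co0) (g := wordElt a5)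
        (Split.conj_closure_mem (s := Set.range v) (by rintro _ ⟨i, rfl⟩; exact hav i)))
      exact fun x hx => (Subgroup.mem_normalizer_iff.1 (hle hq) x).1 hx
    · intro q hq
      obtain ⟨i, rfl⟩ := Subgroup.mem_zpowers_iff.1 hq
      rw [(hta.zpow_right i).eq, mul_inv_cancel_right]
    · intro w hw
      obtain ⟨i, hi, rfl⟩ := List.getElem_of_mem hw
      have hlen : v5.length = 3 := rfl
      refine Subgroup.subset_closure ⟨⟨i, hlen ▸ hi⟩, ?_⟩
      show wordElt (v5.getD i []) = _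
      rw [List.getD_eq_getElem _ _ hi]
    · intro w hw
      rw [List.mem_singleton] at hw
      rw [hw]
      exact Subgroup.mem_zpowers _
  · exact ⟨wordElt s5, 2, 0, 0, 2, by decide,
      by rw [conj_of_eq (hs i i.isLt), wordElt_rep, pow_zero, mul_one],
      by rw [conj_of_eq (hs j j.isLt), wordElt_rep, pow_zero, one_mul]⟩
  · rintro s rfl; exact hta
  · rintro s rfl; exact ha5
  · rintro s rfl i; exact hav i
  · rw [← Subgroup.zpowers_eq_closure]; exact Fusion.killsPart_zpowers 5 _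

end Cfsg.Agent.Lib.Co1Mult.Odd
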