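import Cfsg.Agent.Lib.Co1Mult.Odd

/-!
The part at seven.
-/

set_option autoImplicit false

namespace Cfsg.Agent.Lib.Co1Mult.Odd

open Cfsg Cfsg.Agent.Lib.Schur Cfsg.Agent.Lib.Co3Model
open Cfsg.Agent.Lib.Co1Mult.Words Cfsg.Agent.Lib.Co1Mult.OddData
open scoped commutatorElement

theorem seven_ok : (eqW (rep 7 a7) [] && eqW (rep 7 b7) [] && eqW (a7 ++ b7) (b7 ++ a7) &&
    eqW (n7 ++ a7) (rep 2 a7 ++ n7) && eqW (n7 ++ b7) (rep 2 b7 ++ n7) &&
    orbitOk 7 [a7, b7] sep7) = true := by decide +kernel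

theorem exists_seven : ∃ P : Subgroup Co0, ¬ 7 ∣ P.index ∧ Fusion.KillsPart 7 P := by
  have h := seven_ok
  simp only [Bool.and_eq_true] at h
  obtain ⟨⟨⟨⟨⟨ha, hb⟩, hab⟩, hna⟩, hnb⟩, ho⟩ := h
  have hp : (7 : ℕ).Prime := by norm_num
  set s : Set Co0 := {wordElt a7, wordElt b7} with hs
  have hgp : ∀ x ∈ s, x ^ 7 = 1 := by rintro x (rfl | rfl); exacts [pow_of_eq ha, pow_of_eq hb]
  have hgen : ∀ x ∈ s, ∀ y ∈ s, Commute x y := by
    rintro x (rfl | rfl) y (rfl | rfl)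
    exacts [Commute.refl _, commute_of_eq hab, (commute_of_eq hab).symm, Commute.refl _]
  refine ⟨Subgroup.closure s, ?_, ?_⟩
  · refine Split.not_dvd_index hp (n := 2) (isPGroup_closure hgen hgp) (pow_le_card ho _ ?_)
      (by rw [Leech.card_co0]; decide +kernel)
    intro w hw
    simp only [List.mem_cons, List.not_mem_nil, or_false] at hw
    rcases hw with rfl | rfl
    · exact Subgroup.subset_closure (Or.inl rfl)
    · exact Subgroup.subset_closure (Or.inr rfl)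
  · refine Fusion.killsPart_of_commutative 7 _ fun Γ _ _ σ hσ => ?_
    obtain ⟨A, hA⟩ := hσ.1 (wordElt a7)
    obtain ⟨B, hB⟩ := hσ.1 (wordElt b7)
    have hAB : ⁅A, B⁆ = 1 :=
      InvertedAbelian.pair_eq_one hσ.2.1 hσ.1 (by rw [hA, hB]; exact commute_of_eq hab) hp
        (by rw [hB]; exact pow_of_eq hb) (i := 2) (j := 0) (p := 0) (q := 2) (by decide) (m := wordElt n7)
        (by rw [hA, conj_of_eq hna, wordElt_rep, pow_zero, mul_one])
        (by rw [hB, conj_of_eq hnb, wordElt_rep, pow_zero, one_mul])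
    refine Fusion.comap_comm_of_pairwise hσ.2.1 (T := {A, B}) (by rw [Set.image_pair, hA, hB]) ?_
    have hAB' := commutatorElement_eq_one_iff_mul_comm.1 hAB
    rintro x (rfl | rfl) y (rfl | rfl)
    exacts [rfl, hAB', hAB'.symm, rfl]

end Cfsg.Agent.Lib.Co1Mult.Odd
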