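import Cfsg.Agent.Lib.Co1Mult.OddThreeChecks

/-!
The part at three.
-/

set_option autoImplicit false

namespace Cfsg.Agent.Lib.Co1Mult.Odd

open Cfsg Cfsg.Agent.Lib.Schur Cfsg.Agent.Lib.Co3Model
open Cfsg.Agent.Lib.Co1Mult.Words Cfsg.Agent.Lib.Co1Mult.OddData
open scoped commutatorElement

theorem three_a : complOk 3 6 v3 t3 a3 expA3 = true := by decide +kernel
theorem three_b : complOk 3 6 v3 t3 b3 expB3 = true := by decide +kernel
theorem three_c : (eqW (rep 3 c3) [] && eqW (a3 ++ b3) (c3 ++ b3 ++ a3) && eqW (c3 ++ a3) (a3 ++ c3) &&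
    eqW (c3 ++ b3) (b3 ++ c3) && twistOk m31 a3 e31 && twistOk m32 b3 e32) = true := by decide +kernel

theorem three_pairs : ((List.range 6).all fun i => (List.range 6).all fun j => !Nat.blt i j ||
    pairs3.any fun d => Nat.beq d.1 i && Nat.beq d.2.1 j && pairOk d) = true := by decide +kernel


theorem exists_three : ∃ P : Subgroup Co0, ¬ 3 ∣ P.index ∧ Fusion.KillsPart 3 P := by
  obtain ⟨htt, hv3, hvc, htv⟩ := inv_spec (by norm_num) three_inv
  obtain ⟨ha3, hta, hav⟩ := compl_spec three_a
  obtain ⟨hb3, htb, hbv⟩ := compl_spec three_b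
  have hc := three_c
  simp only [Bool.and_eq_true, twistOk, Bool.not_eq_true', beq_eq_false_iff_ne] at hc
  obtain ⟨⟨⟨⟨⟨hc3, hab⟩, hca⟩, hcb⟩, ⟨⟨d1, f1⟩, g1⟩⟩, ⟨⟨d2, f2⟩, g2⟩⟩ := hc
  have hcomm : ⁅wordElt a3, wordElt b3⁆ = wordElt c3 := by
    have h := eq_of_eqW hab
    rw [wordElt_append, wordElt_append, wordElt_append] at h
    rw [commutatorElement_def, h]
    group
  have hC3 : wordElt c3 ^ 3 = 1 := pow_of_eq hc3
  have hlenQ := pow_le_card three_orbitQ (Subgroup.closure {wordElt a3, wordElt b3}) (by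
    have ha : wordElt a3 ∈ Subgroup.closure {wordElt a3, wordElt b3} :=
      Subgroup.subset_closure (Or.inl rfl)
    have hb : wordElt b3 ∈ Subgroup.closure {wordElt a3, wordElt b3} :=
      Subgroup.subset_closure (Or.inr rfl)
    intro w hw
    simp only [List.mem_cons, List.not_mem_nil, or_false] at hw
    rcases hw with rfl | rfl | rfl
    · rw [← hcomm, commutatorElement_def]
      exact mul_mem (mul_mem (mul_mem ha hb) (inv_mem ha)) (inv_mem hb)
    · exact ha
    · exact hb)
  have hc1 : wordElt c3 ≠ 1 := by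
    intro h
    have hle : Subgroup.closure {wordElt a3, wordElt b3} ≤
        Subgroup.closure {wordElt a3, wordElt b3} := le_rfl
    have hcom : Commute (wordElt a3) (wordElt b3) :=
      commutatorElement_eq_one_iff_commute.1 (hcomm.trans h)
    have hsub := pow_le_card three_orbitQ (Subgroup.zpowers (wordElt a3) ⊔ Subgroup.zpowers (wordElt b3))
      (by
        intro w hw
        simp only [List.mem_cons, List.not_mem_nil, or_false] at hw
        rcases hw with rfl | rfl | rfl
        · rw [h]; exact one_mem _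
        · exact Subgroup.mem_sup_left (Subgroup.mem_zpowers _)
        · exact Subgroup.mem_sup_right (Subgroup.mem_zpowers _))
    have hcard : Nat.card ↥(Subgroup.zpowers (wordElt a3) ⊔ Subgroup.zpowers (wordElt b3)) ≤ 9 := by
      refine (Nat.card_le_card_of_surjective (fun x : Subgroup.zpowers (wordElt a3) ×
        Subgroup.zpowers (wordElt b3) => (⟨x.1.1 * x.2.1, mul_mem (Subgroup.mem_sup_left x.1.2)
          (Subgroup.mem_sup_right x.2.2)⟩ : ↥(Subgroup.zpowers (wordElt a3) ⊔
            Subgroup.zpowers (wordElt b3)))) ?_).trans ?_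
      · rintro ⟨g, hg⟩
        have hn : Subgroup.zpowers (wordElt b3) ≤
            Subgroup.normalizer (Subgroup.zpowers (wordElt a3) : Set Co0) := by
          intro b hb
          obtain ⟨i, rfl⟩ := Subgroup.mem_zpowers_iff.1 hb
          refine Split.mem_normalizer fun x hx => ?_
          obtain ⟨j, rfl⟩ := Subgroup.mem_zpowers_iff.1 hx
          rw [((hcom.zpow_left j).zpow_right i).eq.symm, mul_inv_cancel_right]
          exact hx
        rw [← SetLike.mem_coe, Subgroup.coe_mul_of_right_le_normalizer_left _ _ hn] at hg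
        obtain ⟨x, hx, y, hy, rfl⟩ := hg
        exact ⟨(⟨x, hx⟩, ⟨y, hy⟩), rfl⟩
      · rw [Nat.card_prod, Nat.card_zpowers, Nat.card_zpowers]
        exact Nat.mul_le_mul (Nat.le_of_dvd (by norm_num) (orderOf_dvd_of_pow_eq_one ha3))
          (Nat.le_of_dvd (by norm_num) (orderOf_dvd_of_pow_eq_one hb3))
    have := hsub.trans hcard
    norm_num at this
  have hcA : Commute (wordElt c3) (wordElt a3) := commute_of_eq hca
  have hcB : Commute (wordElt c3) (wordElt b3) := commute_of_eq hcb
  have hkQ : Fusion.KillsPart 3 (Subgroup.closure {wordElt a3, wordElt b3}) := by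
    refine InvertedAbelian.killsPart_extraspecial Nat.prime_three _ _ (wordElt c3) (wordElt m31)
      (wordElt m32) (a₁ := e31.1) (b₁ := e31.2.1) (i₁ := e31.2.2) (a₂ := e32.1) (b₂ := e32.2.1)
      (i₂ := e32.2.2) ha3 hb3 hC3 hc1 hcomm hcA hcB ?_ ?_ ?_ ?_ ?_ ?_
    · intro h; rw [h] at d1; exact Bool.noConfusion d1
    · intro h; rw [h] at d2; exact Bool.noConfusion d2
    · rw [conj_of_eq f1, wordElt_rep]
    · rw [conj_of_eq g1, wordElt_append, wordElt_rep, wordElt_rep]
    · rw [conj_of_eq f2, wordElt_rep]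
    · rw [conj_of_eq g2, wordElt_append, wordElt_rep, wordElt_rep]
  let v : Fin 6 → Co0 := fun i => wordElt (v3.getD i [])
  have hgen : ∀ x ∈ Set.range v, ∀ y ∈ Set.range v, Commute x y := by
    rintro _ ⟨i, rfl⟩ _ ⟨j, rfl⟩; exact hvc i j
  have hgp : ∀ x ∈ Set.range v, x ^ 3 = 1 := by rintro _ ⟨i, rfl⟩; exact hv3 i
  refine ⟨Subgroup.closure (Set.range v ∪ {wordElt a3, wordElt b3}), ?_,
    Split.killsPart_split Nat.prime_three (by decide) v _ (wordElt t3) hv3 hvc (fun i j hij => ?_) htt htv
      ?_ ?_ ?_ hkQ⟩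
  · rw [Subgroup.closure_union]
    set Q := Subgroup.closure {wordElt a3, wordElt b3} with hQdef
    set A := Subgroup.closure ({wordElt c3, wordElt a3} : Set Co0) with hAdef
    have hAp : IsPGroup 3 A := isPGroup_closure
      (by rintro x (rfl | rfl) y (rfl | rfl); exacts [Commute.refl _, hcA, hcA.symm, Commute.refl _])
      (by rintro x (rfl | rfl); exacts [hC3, ha3])
    have hBA : ∀ q ∈ Subgroup.zpowers (wordElt b3), q ∈ Subgroup.normalizer (A : Set Co0) := by
      refine fun q hq => (Subgroup.zpowers_le.2 (Split.mem_normalizer (Split.conj_closure_mem ?_))) hq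
      rintro x (rfl | rfl)
      · rw [← hcB.eq, mul_inv_cancel_right]; exact Subgroup.subset_closure (Or.inl rfl)
      · have e : wordElt b3 * wordElt a3 * (wordElt b3)⁻¹ = (wordElt c3)⁻¹ * wordElt a3 := by
          rw [← hcomm, commutatorElement_inv, commutatorElement_def]; group
        rw [e]
        exact mul_mem (inv_mem (Subgroup.subset_closure (Or.inl rfl)))
          (Subgroup.subset_closure (Or.inr rfl))
    have hQp : IsPGroup 3 Q := by
      refine (hAp.to_sup_of_normal_left' (IsPGroup.of_card (n := 1) ?_) hBA).to_le ?_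
      · rw [Nat.card_zpowers, pow_one]
        refine orderOf_eq_prime (hp := ⟨Nat.prime_three⟩) hb3 fun h => hc1 ?_
        rw [← hcomm, h, commutatorElement_one_right]
      · rw [hQdef, Subgroup.closure_le]
        rintro x (rfl | rfl)
        · exact Subgroup.mem_sup_left (Subgroup.subset_closure (Or.inr rfl))
        · exact Subgroup.mem_sup_right (Subgroup.mem_zpowers _)
    refine index_of_split (n := 6) (m := 3) Nat.prime_three (by decide) (t := wordElt t3)
      (isPGroup_closure hgen hgp) (Split.closure_pow hgen hgp) hQp ?_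
      (Split.conj_closure_inv hgen (by rintro _ ⟨i, rfl⟩; exact htv i)) ?_
      (pow_le_card three_orbit _ ?_) hlenQ (by rw [Leech.card_co0]; decide +kernel)
    · intro q hq
      have hle : Q ≤ Subgroup.normalizer (Subgroup.closure (Set.range v) : Set Co0) := by
        rw [hQdef, Subgroup.closure_le]
        rintro x (rfl | rfl)
        · exact Split.mem_normalizer (Split.conj_closure_mem (by rintro _ ⟨i, rfl⟩; exact hav i))
        · exact Split.mem_normalizer (Split.conj_closure_mem (by rintro _ ⟨i, rfl⟩; exact hbv i))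
      exact fun x hx => (Subgroup.mem_normalizer_iff.1 (hle hq) x).1 hx
    · intro q hq
      have hle : Q ≤ Subgroup.centralizer {wordElt t3} := by
        rw [hQdef, Subgroup.closure_le]
        rintro x (rfl | rfl)
        · exact Subgroup.mem_centralizer_singleton_iff.2 hta.symm.eq
        · exact Subgroup.mem_centralizer_singleton_iff.2 htb.symm.eq
      rw [← Subgroup.mem_centralizer_singleton_iff.1 (hle hq), mul_inv_cancel_right]
    · intro w hw
      obtain ⟨i, hi, rfl⟩ := List.getElem_of_mem hw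
      have hlen : v3.length = 6 := rfl
      refine Subgroup.subset_closure ⟨⟨i, hlen ▸ hi⟩, ?_⟩
      show wordElt (v3.getD i []) = _
      rw [List.getD_eq_getElem _ _ hi]
  · have h := three_pairs
    simp only [List.all_eq_true, List.mem_range] at h
    have h2 := h i i.isLt j j.isLt
    have hlt : Nat.blt i j = true := by rw [Nat.blt_eq]; exact hij
    rw [hlt, Bool.not_true, Bool.false_or] at h2
    obtain ⟨d, -, hd⟩ := List.any_eq_true.1 h2
    simp only [Bool.and_eq_true, pairOk, Bool.not_eq_true', Nat.beq_eq] at hd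
    obtain ⟨⟨hi, hj⟩, ⟨hdet, e1⟩, e2⟩ := hd
    rw [hi, hj] at e1 e2
    refine ⟨wordElt d.2.2.1, d.2.2.2.1, d.2.2.2.2.1, d.2.2.2.2.2.1, d.2.2.2.2.2.2, fun e => ?_, ?_, ?_⟩
    · rw [e, Nat.beq_refl] at hdet; exact Bool.noConfusion hdet
    · rw [conj_of_eq e1, wordElt_append, wordElt_rep, wordElt_rep]
    · rw [conj_of_eq e2, wordElt_append, wordElt_rep, wordElt_rep]
  · rintro s (rfl | rfl); exacts [hta, htb]
  · rintro s (rfl | rfl); exacts [ha3, hb3]
  · rintro s (rfl | rfl) i; exacts [hav i, hbv i]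

end Cfsg.Agent.Lib.Co1Mult.Odd
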