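import Cfsg.Agent.Lib.Co1Mult.Cross
import Cfsg.Agent.Lib.Co1Mult.OddThree
import Cfsg.Agent.Lib.Co1Mult.OddFive
import Cfsg.Agent.Lib.Co1Mult.OddSeven
import Cfsg.Agent.Lib.Schur.PermMult
import Cfsg.Prelude.Def_KGroupFacts

/-!
The automorphism group of the lattice has a trivial multiplier; hence the multiplier of its central
quotient is the centre, of order two.
-/

set_option autoImplicit false

namespace Cfsg.Agent.Lib.Co1Mult

open Cfsg Cfsg.Agent.Lib.Schur

theorem exists_cyclic {G : Type*} [Group G] [Finite G] {p : ℕ} (hp : p.Prime) (hd : p ∣ Nat.card G)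
    (hd2 : ¬ p ^ 2 ∣ Nat.card G) : ∃ P : Subgroup G, ¬ p ∣ P.index ∧ Fusion.KillsPart p P := by
  have : Fact p.Prime := ⟨hp⟩
  obtain ⟨x, hx⟩ := exists_prime_orderOf_dvd_card' p hd
  refine ⟨Subgroup.zpowers x, fun h => hd2 ?_, Fusion.killsPart_zpowers p x⟩
  rw [← (Subgroup.zpowers x).card_mul_index, Nat.card_zpowers, hx, pow_two]
  exact Nat.mul_dvd_mul_left p h

theorem prime_dvd {p : ℕ} (hp : p.Prime) (h : p ∣ 8315553613086720000) :
    p = 2 ∨ p = 3 ∨ p = 5 ∨ p = 7 ∨ p = 11 ∨ p = 13 ∨ p = 23 := by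
  rw [show (8315553613086720000 : ℕ) = 2 ^ 22 * 3 ^ 9 * 5 ^ 4 * 7 ^ 2 * 11 * 13 * 23 by norm_num] at h
  simp only [hp.dvd_mul] at h
  have one := fun {q : ℕ} (hq : q.Prime) (hd : p ∣ q) => (Nat.prime_dvd_prime_iff_eq hp hq).1 hd
  rcases h with (((((h | h) | h) | h) | h) | h) | h
  · exact Or.inl (one Nat.prime_two (hp.dvd_of_dvd_pow h))
  · exact Or.inr (Or.inl (one Nat.prime_three (hp.dvd_of_dvd_pow h)))
  · exact Or.inr (Or.inr (Or.inl (one (by norm_num) (hp.dvd_of_dvd_pow h))))
  · exact Or.inr (Or.inr (Or.inr (Or.inl (one (by norm_num) (hp.dvd_of_dvd_pow h)))))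
  · exact Or.inr (Or.inr (Or.inr (Or.inr (Or.inl (one (by norm_num) h)))))
  · exact Or.inr (Or.inr (Or.inr (Or.inr (Or.inr (Or.inl (one (by norm_num) h))))))
  · exact Or.inr (Or.inr (Or.inr (Or.inr (Or.inr (Or.inr (one (by norm_num) h))))))

theorem card_co0' : Nat.card Co0 = 8315553613086720000 := by
  rw [Leech.card_co0]

theorem multiplier_co0 : HasCyclicSchurMultiplier ↥Co0 1 := by
  refine Fusion.hasTrivialMultiplier fun p hp hd => ?_
  rw [card_co0'] at hd
  rcases prime_dvd hp hd with rfl | rfl | rfl | rfl | rfl | rfl | rfl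
  · exact ⟨Leech.crossGroup, by rw [Leech.index_cross]; norm_num, Cross.killsPart_two⟩
  · exact Odd.exists_three
  · exact Odd.exists_five
  · exact Odd.exists_seven
  all_goals exact exists_cyclic hp (by rw [card_co0']; norm_num) (by rw [card_co0']; norm_num)

/-- The quotient map is a stem extension. -/
theorem isStem_bar : IsStemExtension (QuotientGroup.mk' (Subgroup.center Co0)) :=
  ⟨QuotientGroup.mk'_surjective _, (QuotientGroup.ker_mk' _).le,
    by rw [Cross.perfect_co0]; exact le_top⟩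

theorem multiplier_co1 : HasCyclicSchurMultiplier Spor.Co1 2 := by
  have hc : IsCyclic (QuotientGroup.mk' (Subgroup.center Co0)).ker := by
    refine isCyclic_of_prime_card (p := 2) ?_
    rw [QuotientGroup.ker_mk', Leech.card_center]
  refine PermMult.hasSchurMultiplier_of_cover _ isStem_bar multiplier_co0
    (mulEquivOfCyclicCardEq ?_)
  rw [QuotientGroup.ker_mk', Leech.card_center]
  simp

end Cfsg.Agent.Lib.Co1Mult
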