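import Cfsg.Agent.Lib.Schur.InvertedAbelian

/-!
An abelian group of odd exponent inverted by an involution, extended by a subgroup that the involution
centralises: the part of the multiplier at the prime is that of the complement.
-/

set_option autoImplicit false

namespace Cfsg.Agent.Lib.Co1Mult.Split

open Cfsg Cfsg.Agent.Lib.Schur
open scoped commutatorElement

theorem mem_normalizer {Γ : Type*} [Group Γ] [Finite Γ] {S : Subgroup Γ} {g : Γ}
    (h : ∀ x ∈ S, g * x * g⁻¹ ∈ S) : g ∈ Subgroup.normalizer (S : Set Γ) := by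
  have h1 : S.map (MulAut.conj g).toMonoidHom ≤ S := by
    rintro _ ⟨x, hx, rfl⟩; exact h x hx
  have h2 : S.map (MulAut.conj g).toMonoidHom = S := Subgroup.eq_of_le_of_card_ge h1
    (by rw [Subgroup.card_map_of_injective (MulAut.conj g).injective])
  rw [Subgroup.mem_normalizer_iff]
  intro x
  refine ⟨h x, fun hx => ?_⟩
  have hx' : g * x * g⁻¹ ∈ S.map (MulAut.conj g).toMonoidHom := h2.symm ▸ hx
  obtain ⟨y, hy, e⟩ := hx'
  obtain rfl : y = x := (MulAut.conj g).injective e
  exact hy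

section
variable {G : Type*} [Group G]

/-- Generators of exponent `r` that commute pairwise generate an abelian group of exponent `r`. -/
theorem closure_comm {s : Set G} (hc : ∀ x ∈ s, ∀ y ∈ s, Commute x y) :
    ∀ x ∈ Subgroup.closure s, ∀ y ∈ Subgroup.closure s, Commute x y := fun x hx y hy => by
  have := Subgroup.isMulCommutative_closure (k := s) hc
  exact setLike_mul_comm hx hy

theorem closure_pow {s : Set G} {r : ℕ} (hc : ∀ x ∈ s, ∀ y ∈ s, Commute x y) (hr : ∀ x ∈ s, x ^ r = 1) :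
    ∀ x ∈ Subgroup.closure s, x ^ r = 1 := fun x hx => by
  induction hx using Subgroup.closure_induction with
  | mem x hx => exact hr x hx
  | one => exact one_pow r
  | mul a b ha hb iha ihb => rw [(closure_comm hc a ha b hb).mul_pow, iha, ihb, one_mul]
  | inv a _ iha => rw [inv_pow, iha, inv_one]

theorem conj_closure_inv {s : Set G} {t : G} (hc : ∀ x ∈ s, ∀ y ∈ s, Commute x y)
    (ht : ∀ x ∈ s, t * x * t⁻¹ = x⁻¹) : ∀ x ∈ Subgroup.closure s, t * x * t⁻¹ = x⁻¹ := fun x hx => by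
  induction hx using Subgroup.closure_induction with
  | mem x hx => exact ht x hx
  | one => simp
  | mul a b ha hb iha ihb =>
    rw [mul_inv_rev, (closure_comm hc _ (inv_mem hb) _ (inv_mem ha)).eq, ← iha, ← ihb]
    group
  | inv a _ iha => rw [show t * a⁻¹ * t⁻¹ = (t * a * t⁻¹)⁻¹ by group, iha]

theorem conj_closure_mem {s : Set G} {g : G} (h : ∀ x ∈ s, g * x * g⁻¹ ∈ Subgroup.closure s) :
    ∀ x ∈ Subgroup.closure s, g * x * g⁻¹ ∈ Subgroup.closure s := by
  have hle : Subgroup.closure s ≤ (Subgroup.closure s).comap (MulAut.conj g).toMonoidHom := by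
    rw [Subgroup.closure_le]; exact h
  exact fun x hx => hle hx

/-- A `p`-subgroup at least as large as the `p`-part of the group has index prime to `p`. -/
theorem not_dvd_index [Finite G] {P : Subgroup G} {p n : ℕ} (hp : p.Prime) (hP : IsPGroup p P)
    (hn : p ^ n ≤ Nat.card P) (hG : ¬ p ^ (n + 1) ∣ Nat.card G) : ¬ p ∣ P.index := by
  intro hd
  have : Fact p.Prime := ⟨hp⟩
  obtain ⟨m, hm⟩ := hP.exists_card_eq
  rw [hm] at hn
  have hnm : n ≤ m := (Nat.pow_le_pow_iff_right hp.one_lt).1 hn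
  refine hG (dvd_trans (pow_dvd_pow p (by omega : n + 1 ≤ m + 1)) ?_)
  rw [← P.card_mul_index, hm, pow_succ]
  exact Nat.mul_dvd_mul_left _ hd

/-- A subgroup normalised by another one and meeting it trivially. -/
theorem sup_facts [Finite G] {V Q : Subgroup G} {p : ℕ} (hV : IsPGroup p V) (hQ : IsPGroup p Q)
    (hn : ∀ q ∈ Q, ∀ x ∈ V, q * x * q⁻¹ ∈ V) (hd : ∀ x ∈ V, x ∈ Q → x = 1) :
    IsPGroup p ↥(V ⊔ Q) ∧ Nat.card V * Nat.card Q ≤ Nat.card ↥(V ⊔ Q) := by
  refine ⟨hV.to_sup_of_normal_left' hQ fun q hq => mem_normalizer (hn q hq), ?_⟩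
  rw [← Nat.card_prod]
  refine Nat.card_le_card_of_injective (fun x : V × Q => (⟨x.1.1 * x.2.1,
    mul_mem (Subgroup.mem_sup_left x.1.2) (Subgroup.mem_sup_right x.2.2)⟩ : ↥(V ⊔ Q))) ?_
  rintro ⟨a, b⟩ ⟨a', b'⟩ h
  have h' : (a : G) * b = a' * b' := congrArg Subtype.val h
  have h1 : (a' : G)⁻¹ * a = b' * (b : G)⁻¹ := by
    rw [eq_mul_inv_iff_mul_eq, mul_assoc, h', inv_mul_cancel_left]
  have h2 := hd _ (mul_mem (inv_mem a'.2) a.2) (h1 ▸ mul_mem b'.2 (inv_mem b.2))
  refine Prod.ext (Subtype.ext (inv_mul_eq_one.1 h2).symm) (Subtype.ext ?_)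
  rw [h2, eq_comm, mul_inv_eq_one] at h1
  exact h1.symm

end

theorem killsPart_split {G : Type*} [Group G] {r : ℕ} (hr : r.Prime) (hodd : Odd r) {k : ℕ}
    (v : Fin k → G) (S : Set G) (t : G) (hv : ∀ i, v i ^ r = 1) (hvc : ∀ i j, Commute (v i) (v j))
    (hpair : ∀ i j, i < j → ∃ (m : G) (i' j' p q : ℕ), i' * q % r ≠ (j' * p + 1) % r ∧
      m * v i * m⁻¹ = v i ^ i' * v j ^ j' ∧ m * v j * m⁻¹ = v i ^ p * v j ^ q)
    (ht : t * t = 1) (htv : ∀ i, t * v i * t⁻¹ = (v i)⁻¹) (hts : ∀ s ∈ S, Commute t s)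
    (hsr : ∀ s ∈ S, s ^ r = 1) (hSv : ∀ s ∈ S, ∀ i, s * v i * s⁻¹ ∈ Subgroup.closure (Set.range v))
    (hQ : Fusion.KillsPart r (Subgroup.closure S)) :
    Fusion.KillsPart r (Subgroup.closure (Set.range v ∪ S)) := by
  intro Γ _ _ σ hσ z hz hzr hzc
  have hk := hσ.2.1
  have hker : ∀ s ∈ σ.ker, ∀ x : Γ, Commute s x := fun s hs x =>
    ((Subgroup.mem_center_iff.1 (hk hs)) x).symm
  choose L hL using fun i => hσ.1 (v i)
  choose lift hlift using hσ.1
  obtain ⟨T, rfl⟩ := hσ.1 t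
  set V : Subgroup G := Subgroup.closure (Set.range v) with hVdef
  have hgen : ∀ x ∈ Set.range v, ∀ y ∈ Set.range v, Commute x y := by
    rintro _ ⟨i, rfl⟩ _ ⟨j, rfl⟩; exact hvc i j
  -- the preimage of `V` is abelian
  have hpairs : ∀ i j, ⁅L i, L j⁆ = 1 := by
    have hlt : ∀ i j, i < j → ⁅L i, L j⁆ = 1 := by
      intro i j hij
      obtain ⟨m, i', j', p, q, hdet, h1, h2⟩ := hpair i j hij
      refine InvertedAbelian.pair_eq_one hk hσ.1 (by rw [hL, hL]; exact hvc i j) hr (by rw [hL, hv])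
        hdet (m := m) ?_ ?_
      · rw [hL, hL, h1]
      · rw [hL, hL, h2]
    intro i j
    rcases lt_trichotomy i j with h | rfl | h
    · exact hlt i j h
    · exact commutatorElement_self _
    · rw [← commutatorElement_inv, hlt j i h, inv_one]
  have hVc := Fusion.comap_comm_of_pairwise hk (P := V)
    (T := Set.range L) (by rw [← Set.range_comp]; exact (Subgroup.closure_mono (by
      rintro _ ⟨i, rfl⟩; exact ⟨i, hL i⟩)))
    (by rintro _ ⟨i, rfl⟩ _ ⟨j, rfl⟩; exact commutatorElement_eq_one_iff_mul_comm.1 (hpairs i j))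
  have hT2 : ∀ x : Γ, T * (T * x * T⁻¹) * T⁻¹ = x := fun x => by
    have h := hker (T * T) (by rw [MonoidHom.mem_ker, map_mul, ht]) x
    calc T * (T * x * T⁻¹) * T⁻¹ = (T * T) * x * (T * T)⁻¹ := by group
      _ = x := by rw [h.eq, mul_inv_cancel_right]
  -- the inverted part
  let K : Subgroup Γ :=
    { carrier := {x | σ x ∈ V ∧ T * x * T⁻¹ = x⁻¹}
      one_mem' := ⟨by rw [map_one]; exact one_mem _, by group⟩
      mul_mem' := fun {x y} hx hy => ⟨by rw [map_mul]; exact mul_mem hx.1 hy.1, by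
        rw [show T * (x * y) * T⁻¹ = (T * x * T⁻¹) * (T * y * T⁻¹) by group, hx.2, hy.2,
          ← mul_inv_rev, hVc x hx.1 y hy.1]⟩
      inv_mem' := fun {x} hx => ⟨by rw [map_inv]; exact inv_mem hx.1, by
        rw [show T * x⁻¹ * T⁻¹ = (T * x * T⁻¹)⁻¹ by group, hx.2]⟩ }
  obtain ⟨e, he⟩ := hodd
  let u : Fin k → Γ := fun i => (T * L i * T⁻¹ * (L i)⁻¹) ^ e
  have hu : ∀ i, σ (u i) = v i := fun i => by
    simp only [u, map_pow, map_mul, map_inv, hL, htv]
    rw [← mul_inv_rev, ← pow_two, inv_pow, ← pow_mul, inv_eq_iff_mul_eq_one, ← pow_succ, ← he]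
    exact hv i
  have huK : ∀ i, u i ∈ K := fun i => by
    refine pow_mem (show T * L i * T⁻¹ * (L i)⁻¹ ∈ K from ⟨?_, ?_⟩) e
    · simp only [map_mul, map_inv, hL, htv]
      exact mul_mem (inv_mem (Subgroup.subset_closure ⟨i, rfl⟩))
        (inv_mem (Subgroup.subset_closure ⟨i, rfl⟩))
    · rw [show T * (T * L i * T⁻¹ * (L i)⁻¹) * T⁻¹ =
        (T * (T * L i * T⁻¹) * T⁻¹) * (T * L i * T⁻¹)⁻¹ by group, hT2]
      group
  -- the involution centralises the preimage of the complement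
  set Q : Subgroup Γ := (Subgroup.closure S).comap σ with hQdef
  have hTS : ∀ s ∈ S, Commute T (lift s) := fun s hs => by
    refine commutatorElement_eq_one_iff_mul_comm.1 (InvertedAbelian.eq_one_of_sq hk (r := r) ⟨e, he⟩ ?_
      (Fusion.commutator_pow_eq_one hk (by rw [hlift]; exact hts s hs) (by rw [hlift]; exact hsr s hs)))
    have h := Fusion.commutator_pow_eq_one hk (a := lift s) (b := T) (n := 2)
      (by rw [hlift]; exact (hts s hs).symm) (by rw [pow_two, ht])
    rwa [← commutatorElement_inv T (lift s), inv_pow, inv_eq_one] at h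
  have hQle : Q ≤ Subgroup.closure (lift '' S ∪ (σ.ker : Set Γ)) := by
    intro g hg
    rw [Subgroup.closure_union, Subgroup.closure_eq]
    have h1 : σ g ∈ (Subgroup.closure (lift '' S)).map σ := by
      rw [MonoidHom.map_closure, Set.image_image]
      simp only [hlift, Set.image_id']
      exact hg
    rwa [← Subgroup.mem_comap, Subgroup.comap_map_eq] at h1
  have hTQ : ∀ g ∈ Q, T * g = g * T := by
    have hle : Subgroup.closure (lift '' S ∪ (σ.ker : Set Γ)) ≤ Subgroup.centralizer {T} := by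
      rw [Subgroup.closure_le]
      rintro g (⟨s, hs, rfl⟩ | hg)
      · exact Subgroup.mem_centralizer_singleton_iff.2 (hTS s hs).symm.eq
      · exact Subgroup.mem_centralizer_singleton_iff.2 (hker g hg T).eq
    exact fun g hg => (Subgroup.mem_centralizer_singleton_iff.1 (hle (hQle hg))).symm
  have hQV : ∀ g ∈ Q, ∀ y ∈ V, σ g * y * (σ g)⁻¹ ∈ V := by
    intro g hg y hy
    have hle : (Subgroup.closure S) ≤ Subgroup.normalizer (V : Set G) := by
      rw [Subgroup.closure_le]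
      intro s hs
      rw [SetLike.mem_coe, Subgroup.mem_normalizer_iff]
      have h1 : ∀ w ∈ V, s * w * s⁻¹ ∈ V :=
        conj_closure_mem (by rintro _ ⟨i, rfl⟩; exact hSv s hs i)
      refine fun x => ⟨h1 x, fun hx => ?_⟩
      have h2 : ∀ n : ℕ, ∀ w ∈ V, s ^ n * w * (s ^ n)⁻¹ ∈ V := by
        intro n
        induction n with
        | zero => intro w hw; simpa using hw
        | succ n ih =>
          intro w hw
          rw [show s ^ (n + 1) * w * (s ^ (n + 1))⁻¹ = s * (s ^ n * w * (s ^ n)⁻¹) * s⁻¹ by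
            rw [pow_succ']; group]
          exact h1 _ (ih w hw)
      have hs' : s⁻¹ = s ^ (r - 1) := inv_eq_of_mul_eq_one_right (by
        rw [← pow_succ', Nat.sub_add_cancel hr.one_le, hsr s hs])
      have h3 := h2 (r - 1) _ hx
      rwa [← hs', show s⁻¹ * (s * x * s⁻¹) * (s⁻¹)⁻¹ = x by group] at h3
    exact (Subgroup.mem_normalizer_iff.1 (hle hg) y).1 hy
  have hKQ : ∀ g ∈ Q, ∀ x ∈ K, g * x * g⁻¹ ∈ K := by
    intro g hg x hx
    refine ⟨by rw [map_mul, map_mul, map_inv]; exact hQV g hg _ hx.1, ?_⟩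
    have hc := hTQ g hg
    have hc' : g⁻¹ * T⁻¹ = T⁻¹ * g⁻¹ := by rw [← mul_inv_rev, hc, mul_inv_rev]
    calc T * (g * x * g⁻¹) * T⁻¹ = (T * g) * x * (g⁻¹ * T⁻¹) := by group
      _ = g * (T * x * T⁻¹) * g⁻¹ := by rw [hc, hc']; group
      _ = (g * x * g⁻¹)⁻¹ := by rw [hx.2]; group
  have hpre : (Subgroup.closure (Set.range v ∪ S)).comap σ ≤ Subgroup.closure ((K : Set Γ) ∪ Q) := by
    intro g hg
    have h1 : σ g ∈ (Subgroup.closure ((K : Set Γ) ∪ Q)).map σ := by
      refine (Subgroup.closure_le _).2 ?_ hg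
      rintro y (⟨i, rfl⟩ | hy)
      · exact ⟨u i, Subgroup.subset_closure (Or.inl (huK i)), hu i⟩
      · exact ⟨lift y, Subgroup.subset_closure (Or.inr (show σ (lift y) ∈ Subgroup.closure S by
          rw [hlift]; exact Subgroup.subset_closure hy)), hlift y⟩
    rw [← Subgroup.mem_comap, Subgroup.comap_map_eq] at h1
    have hle : σ.ker ≤ Subgroup.closure ((K : Set Γ) ∪ Q) := by
      intro x hx
      refine Subgroup.subset_closure (Or.inr ?_)
      show σ x ∈ Subgroup.closure S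
      rw [MonoidHom.mem_ker.1 hx]
      exact one_mem _
    exact (sup_le le_rfl hle : _ ⊔ σ.ker ≤ _) h1
  set D : Subgroup Γ := ⁅Q, Q⁆ with hD
  have hDQ : D ≤ Q := Subgroup.commutator_le_self _
  have hKcomm : ∀ x ∈ K, ∀ y ∈ K, x * y = y * x := fun x hx y hy => hVc x hx.1 y hy.1
  have hKD : ∀ x ∈ K, ∀ q ∈ Q, ⁅x, q⁆ ∈ K := fun x hx q hq => by
    rw [commutatorElement_def, mul_assoc, mul_assoc, ← mul_assoc q]
    exact mul_mem hx (hKQ q hq _ (inv_mem hx))
  have hcl : ⁅Subgroup.closure ((K : Set Γ) ∪ Q), Subgroup.closure ((K : Set Γ) ∪ Q)⁆ ≤ K ⊔ D := by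
    refine Fusion.commutator_closure_le _ _ ?_ ?_
    · intro s hs x hx
      have hle : K ⊔ D ≤ (K ⊔ D).comap (MulAut.conj s).toMonoidHom := by
        refine sup_le (fun y hy => Subgroup.mem_sup_left ?_) (fun d hd => ?_)
        · show s * y * s⁻¹ ∈ K
          rcases hs with hs | hs
          · rw [hKcomm s hs y hy, mul_inv_cancel_right]; exact hy
          · exact hKQ s hs y hy
        · show s * d * s⁻¹ ∈ K ⊔ D
          rw [show s * d * s⁻¹ = ⁅s, d⁆ * d by rw [commutatorElement_def]; group]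
          refine mul_mem ?_ (Subgroup.mem_sup_right hd)
          rcases hs with hs | hs
          · exact Subgroup.mem_sup_left (hKD s hs d (hDQ hd))
          · exact Subgroup.mem_sup_right (Subgroup.commutator_mem_commutator hs (hDQ hd))
      exact hle hx
    · intro s hs s' hs'
      rcases hs with hs | hs <;> rcases hs' with hs' | hs'
      · rw [commutatorElement_eq_one_iff_mul_comm.2 (hKcomm s hs s' hs')]; exact one_mem _
      · exact Subgroup.mem_sup_left (hKD s hs s' hs')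
      · rw [← commutatorElement_inv]; exact inv_mem (Subgroup.mem_sup_left (hKD s' hs' s hs))
      · exact Subgroup.mem_sup_right (Subgroup.commutator_mem_commutator hs hs')
  have hzKD := hcl (Subgroup.commutator_mono hpre hpre hzc)
  have hDN : D ≤ Subgroup.normalizer (K : Set Γ) := fun d hd =>
    mem_normalizer (hKQ d (hDQ hd))
  rw [← SetLike.mem_coe, Subgroup.coe_mul_of_right_le_normalizer_left K D hDN] at hzKD
  obtain ⟨x, hx, c, hc, rfl⟩ := hzKD
  -- the inverted component is trivial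
  have hTx : T * x * T⁻¹ = x := by
    have h1 : T * (x * c) = (x * c) * T := (hker _ hz T).eq.symm
    rw [mul_assoc x c T, ← hTQ c (hDQ hc), ← mul_assoc, ← mul_assoc] at h1
    rw [mul_right_cancel h1, mul_inv_cancel_right]
  have hx2 : x ^ 2 = 1 := by rw [pow_two, ← eq_inv_iff_mul_eq_one, ← hx.2, hTx]
  have hσx : σ x = 1 := by
    refine InvertedAbelian.eq_one_of_sq (σ := MonoidHom.id G) (by rw [MonoidHom.ker_id]; exact bot_le)
      ⟨e, he⟩ (by rw [← map_pow, hx2, map_one]) (closure_pow hgen ?_ _ hx.1)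
    rintro _ ⟨i, rfl⟩; exact hv i
  have hxc : Commute x c := hker x hσx c
  have e1 : x * c = c ^ (r + 1) := by
    have h2 : (x * c) ^ (r + 1) = x * c := by rw [pow_succ, hzr, one_mul]
    have h3 : x ^ (r + 1) = 1 := by rw [he, show 2 * e + 1 + 1 = 2 * (e + 1) by ring, pow_mul, hx2, one_pow]
    rw [← h2, hxc.mul_pow, h3, one_mul]
  refine hQ Γ σ hσ _ hz hzr ?_
  show x * c ∈ D
  rw [e1]
  exact pow_mem hc _

end Cfsg.Agent.Lib.Co1Mult.Split
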