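import Cfsg.Agent.Lib.Co1Mult.Words
import Cfsg.Agent.Lib.Co1Mult.OddData
import Cfsg.Agent.Lib.Co1Mult.Split

/-!
Subgroups of index prime to three, five and seven killing those parts of the multiplier.
-/

set_option autoImplicit false

namespace Cfsg.Agent.Lib.Co1Mult.Odd

open Cfsg Cfsg.Agent.Lib.Schur Cfsg.Agent.Lib.Co3Model
open Cfsg.Agent.Lib.Co1Mult.Words Cfsg.Agent.Lib.Co1Mult.OddData
open scoped commutatorElement

theorem conj_of_eq {a b c : List Op} (h : eqW (a ++ b) (c ++ a) = true) :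
    wordElt a * wordElt b * (wordElt a)⁻¹ = wordElt c := by
  have h' := eq_of_eqW h
  rw [wordElt_append, wordElt_append] at h'
  rw [h', mul_inv_cancel_right]

theorem commute_of_eq {a b : List Op} (h : eqW (a ++ b) (b ++ a) = true) :
    Commute (wordElt a) (wordElt b) := by
  have h' := eq_of_eqW h
  rwa [wordElt_append, wordElt_append] at h'

theorem pow_of_eq {a : List Op} {n : ℕ} (h : eqW (rep n a) [] = true) : wordElt a ^ n = 1 := by
  rw [← wordElt_rep, eq_of_eqW h, wordElt_nil]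

/-- The checks on a group inverted by an involution. -/
def invOk (r k : ℕ) (v : List (List Op)) (t : List Op) : Bool :=
  eqW (t ++ t) [] && (List.range k).all fun i =>
    eqW (rep r (v.getD i [])) [] &&
    eqW (t ++ v.getD i []) (rep (r - 1) (v.getD i []) ++ t) &&
    (List.range k).all fun j => !Nat.blt i j ||
      eqW (v.getD i [] ++ v.getD j []) (v.getD j [] ++ v.getD i [])

/-- The checks on an element of the complement. -/
def complOk (r k : ℕ) (v : List (List Op)) (t a : List Op) (e : List (List ℕ)) : Bool :=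
  eqW (rep r a) [] && eqW (t ++ a) (a ++ t) &&
    (List.range k).all fun i => eqW (a ++ v.getD i []) (expW k (fun j => v.getD j []) (e.getD i []) ++ a)

section
variable {r k : ℕ} {v : List (List Op)} {t a : List Op} {e : List (List ℕ)}

theorem inv_spec (hr : 1 ≤ r) (h : invOk r k v t = true) :
    wordElt t * wordElt t = 1 ∧ (∀ i : Fin k, wordElt (v.getD i []) ^ r = 1) ∧
    (∀ i j : Fin k, Commute (wordElt (v.getD i [])) (wordElt (v.getD j []))) ∧
    ∀ i : Fin k, wordElt t * wordElt (v.getD i []) * (wordElt t)⁻¹ = (wordElt (v.getD i []))⁻¹ := by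
  simp only [invOk, Bool.and_eq_true, List.all_eq_true, List.mem_range] at h
  obtain ⟨ht, hv⟩ := h
  refine ⟨by rw [← wordElt_append, eq_of_eqW ht, wordElt_nil], fun i => pow_of_eq (hv i i.isLt).1.1,
    fun i j => ?_, fun i => ?_⟩
  · have key : ∀ i j : Fin k, i.1 < j.1 → Commute (wordElt (v.getD i [])) (wordElt (v.getD j [])) := by
      intro i j hij
      have h2 := (hv i i.isLt).2 j j.isLt
      rw [show Nat.blt i j = true by rw [Nat.blt_eq]; exact hij, Bool.not_true, Bool.false_or] at h2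
      exact commute_of_eq h2
    rcases lt_trichotomy i.1 j.1 with h | h | h
    · exact key i j h
    · rw [Fin.ext h]
    · exact (key j i h).symm
  rw [conj_of_eq (hv i i.isLt).1.2, wordElt_rep]
  refine (inv_eq_of_mul_eq_one_right ?_).symm
  rw [← pow_succ', Nat.sub_add_cancel hr, pow_of_eq (hv i i.isLt).1.1]

theorem compl_spec (h : complOk r k v t a e = true) :
    wordElt a ^ r = 1 ∧ Commute (wordElt t) (wordElt a) ∧
    ∀ i : Fin k, wordElt a * wordElt (v.getD i []) * (wordElt a)⁻¹ ∈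
      Subgroup.closure (Set.range fun j : Fin k => wordElt (v.getD j [])) := by
  simp only [complOk, Bool.and_eq_true, List.all_eq_true, List.mem_range] at h
  refine ⟨pow_of_eq h.1.1, commute_of_eq h.1.2, fun i => ?_⟩
  rw [conj_of_eq (h.2 i i.isLt)]
  exact expW_mem _ fun j hj => Subgroup.subset_closure ⟨⟨j, hj⟩, rfl⟩

end

/-- A `p`-subgroup: generators of exponent `p` that commute. -/
theorem isPGroup_closure {s : Set Co0} {p : ℕ} (hc : ∀ x ∈ s, ∀ y ∈ s, Commute x y)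
    (hp : ∀ x ∈ s, x ^ p = 1) : IsPGroup p (Subgroup.closure s) := fun x =>
  ⟨1, Subtype.ext (by rw [pow_one, SubmonoidClass.coe_pow]; exact Split.closure_pow hc hp x.1 x.2)⟩

/-- The subgroup `V Q` has index prime to `p`. -/
theorem index_of_split {p n m : ℕ} (hp : p.Prime) (hodd : Odd p) {V Q : Subgroup Co0} {t : Co0}
    (hV : IsPGroup p V) (hVp : ∀ x ∈ V, x ^ p = 1) (hQ : IsPGroup p Q)
    (hn : ∀ q ∈ Q, ∀ x ∈ V, q * x * q⁻¹ ∈ V) (htV : ∀ x ∈ V, t * x * t⁻¹ = x⁻¹)
    (htQ : ∀ q ∈ Q, t * q * t⁻¹ = q) (hcV : p ^ n ≤ Nat.card V) (hcQ : p ^ m ≤ Nat.card Q)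
    (hG : ¬ p ^ (n + m + 1) ∣ Nat.card Co0) : ¬ p ∣ (V ⊔ Q).index := by
  have hd : ∀ x ∈ V, x ∈ Q → x = 1 := fun x hx hx' => by
    have h2 : x ^ 2 = 1 := by rw [pow_two, ← eq_inv_iff_mul_eq_one, ← htV x hx, htQ x hx']
    exact InvertedAbelian.eq_one_of_sq (σ := MonoidHom.id Co0) (by rw [MonoidHom.ker_id]; exact bot_le)
      hodd h2 (hVp x hx)
  obtain ⟨h1, h2⟩ := Split.sup_facts hV hQ hn hd
  exact Split.not_dvd_index hp h1 (by rw [pow_add]; exact (Nat.mul_le_mul hcV hcQ).trans h2) hG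

/-- An element `m` and exponents carrying a pair of vectors to themselves. -/
def pairOk (d : ℕ × ℕ × List Op × ℕ × ℕ × ℕ × ℕ) : Bool :=
  let vi := v3.getD d.1 []
  let vj := v3.getD d.2.1 []
  !Nat.beq (d.2.2.2.1 * d.2.2.2.2.2.2 % 3) ((d.2.2.2.2.1 * d.2.2.2.2.2.1 + 1) % 3) &&
    eqW (d.2.2.1 ++ vi) (rep d.2.2.2.1 vi ++ rep d.2.2.2.2.1 vj ++ d.2.2.1) &&
    eqW (d.2.2.1 ++ vj) (rep d.2.2.2.2.2.1 vi ++ rep d.2.2.2.2.2.2 vj ++ d.2.2.1)

/-- The checks on a twisting element. -/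
def twistOk (m x : List Op) (e : ℕ × ℕ × ℕ) : Bool :=
  !Nat.beq (e.1 * e.2.1 % 3) 1 && eqW (m ++ c3) (rep e.1 c3 ++ m) &&
    eqW (m ++ x) (rep e.2.1 x ++ rep e.2.2 c3 ++ m)

end Cfsg.Agent.Lib.Co1Mult.Odd
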