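import Cfsg.Agent.Lib.Co1Mult.Odd

/-!
Checks on the elementary abelian group of order `3 ^ 6`.
-/

set_option autoImplicit false

namespace Cfsg.Agent.Lib.Co1Mult.Odd

open Cfsg Cfsg.Agent.Lib.Schur Cfsg.Agent.Lib.Co3Model
open Cfsg.Agent.Lib.Co1Mult.Words Cfsg.Agent.Lib.Co1Mult.OddData
open scoped commutatorElement

theorem three_inv : invOk 3 6 v3 t3 = true := by decide +kernel

set_option maxRecDepth 20000 in
theorem three_orbit : orbitOk 3 v3 sep3 = true := by decide +kernel
theorem three_orbitQ : orbitOk 3 [c3, a3, b3] sepQ3 = true := by decide +kernel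

end Cfsg.Agent.Lib.Co1Mult.Odd
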