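import Cfsg.Agent.Lib.Co3Model.Packed
import Cfsg.Agent.Lib.Leech.Co1Simple

/-!
Checked identities between words of lattice automorphisms, and orbits bounding the order of a subgroup.
-/

set_option autoImplicit false

namespace Cfsg.Agent.Lib.Co1Mult.Words

open Cfsg Cfsg.Agent.Lib.Leech Cfsg.Agent.Lib.Co3Model
open Cfsg.Agent.Lib.Computation (packW forceNat forceNat_eq)

/-- The coordinates of eight times a unit vector. -/
def axisL (i : ℕ) : List ℤ := (List.range 24).map fun k => if Nat.beq k i then 8 else 0

theorem lv_eightE {i : ℕ} (hi : i < 24) : lv (eightE (Golay.pt i)) = axisL i := by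
  refine lv_eq_map fun k hk => ?_
  rw [eightE_apply]
  by_cases h : k = i
  · subst h; simp
  · rw [if_neg fun h' => h (by rw [← Golay.idx_pt hk, h', Golay.idx_pt hi]),
      if_neg (by rw [Nat.beq_eq]; exact h)]

/-- The code of eight times a unit vector. -/
def axisC (i : ℕ) : ℕ := packW 8 (fun k => if Nat.beq k i then 136 else 128) 24

theorem decodeV_axisC (i : ℕ) : decodeV (axisC i) = axisL i := by
  rw [axisC, decodeV_packW fun k _ => by split_ifs <;> norm_num, axisL]
  exact List.map_congr_left fun k _ => by split_ifs <;> norm_num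

/-- Two words agree on a code. -/
def agreeC (u v : List Op) (c : ℕ) : Bool :=
  match appWordC u c, appWordC v c with
  | some d, some e => Nat.beq d e
  | _, _ => false

/-- Two words are the same automorphism. -/
def eqW (u v : List Op) : Bool :=
  u.all Op.ok && v.all Op.ok && (List.range 24).all fun i => forceNat (axisC i) (agreeC u v)

theorem eq_of_eqW {u v : List Op} (h : eqW u v = true) : wordElt u = wordElt v := by
  simp only [eqW, Bool.and_eq_true, List.all_eq_true, List.mem_range, forceNat_eq] at h
  obtain ⟨⟨hu, hv⟩, he⟩ := h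
  refine co0_ext fun p => lv_injective ?_
  have hp := he _ (Golay.idx_lt p)
  unfold agreeC at hp
  split at hp
  · rename_i d e hd he'
    rw [Nat.beq_eq] at hp
    rw [lv_word (List.all_eq_true.2 hu), lv_word (List.all_eq_true.2 hv), ← Golay.pt_idx p,
      lv_eightE (Golay.idx_lt p), ← decodeV_axisC, appWordC_sound (List.all_eq_true.2 hu) hd,
      appWordC_sound (List.all_eq_true.2 hv) he', hp]
  · exact absurd hp (by simp)

theorem wordElt_append (u v : List Op) : wordElt (u ++ v) = wordElt u * wordElt v := by
  simp [wordElt]

theorem wordElt_nil : wordElt [] = 1 := rfl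

/-- A power of a word. -/
def rep (n : ℕ) (w : List Op) : List Op := (List.replicate n w).flatten

theorem wordElt_rep (w : List Op) : ∀ n, wordElt (rep n w) = wordElt w ^ n
  | 0 => rfl
  | n + 1 => by
    rw [rep, List.replicate_succ, List.flatten_cons, wordElt_append, ← rep, wordElt_rep w n, pow_succ']

/-- The product of powers of a family of words. -/
def expW (k : ℕ) (v : ℕ → List Op) (e : List ℕ) : List Op :=
  (List.range k).flatMap fun i => rep (e.getD i 0) (v i)

theorem expW_mem {k : ℕ} {v : ℕ → List Op} {e : List ℕ} (S : Subgroup Co0)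
    (h : ∀ i < k, wordElt (v i) ∈ S) : wordElt (expW k v e) ∈ S := by
  have key : ∀ l : List ℕ, (∀ i ∈ l, i < k) →
      wordElt (l.flatMap fun i => rep (e.getD i 0) (v i)) ∈ S := by
    intro l
    induction l with
    | nil => intro _; exact one_mem _
    | cons a l ih =>
      intro hl
      rw [List.flatMap_cons, wordElt_append, wordElt_rep]
      exact mul_mem (pow_mem (h a (hl a (List.mem_cons_self ..))) _)
        (ih fun i hi => hl i (List.mem_cons_of_mem _ hi))
  exact key _ fun i hi => List.mem_range.1 hi

/-- Iterated images. -/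
def iterC (w : List Op) : ℕ → ℕ → List ℕ
  | 0, _ => []
  | n + 1, c => c :: match appWordC w c with
    | some d => forceNat d (iterC w n)
    | none => []

/-- The images under products of powers of the words. -/
def orbit (p : ℕ) : List (List Op) → ℕ → List ℕ
  | [], c => [c]
  | w :: ws, c => (orbit p ws c).flatMap (iterC w p)

/-- No repetitions. -/
def nodupB : List ℕ → Bool
  | [] => true
  | c :: l => (l.all fun d => !Nat.beq c d) && nodupB l

theorem nodup_of_nodupB : ∀ {l : List ℕ}, nodupB l = true → l.Nodup
  | [], _ => List.nodup_nil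
  | c :: l, h => by
    simp only [nodupB, Bool.and_eq_true, List.all_eq_true, Bool.not_eq_true'] at h
    refine List.nodup_cons.2 ⟨fun hc => ?_, nodup_of_nodupB h.2⟩
    have := h.1 c hc
    rw [Nat.beq_refl] at this
    exact Bool.noConfusion this

/-- The digits of a code. -/
def norm8 (c : ℕ) : ℕ := packW 8 (fun i => Computation.getW 8 c i) 24

/-- The digits of the codes of a list. -/
def normList : List ℕ → List ℕ
  | [] => []
  | c :: l => forceNat (norm8 c) fun d => d :: normList l

theorem normList_eq : ∀ l, normList l = l.map norm8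
  | [] => rfl
  | c :: l => by rw [normList, forceNat_eq, normList_eq l, List.map_cons]

theorem packW_congr {w : ℕ} {f g : ℕ → ℕ} : ∀ {k : ℕ}, (∀ x < k, f x = g x) → packW w f k = packW w g k := by
  intro k
  induction k with
  | zero => intro _; rfl
  | succ k ih =>
    intro h
    rw [Computation.packW_succ, Computation.packW_succ, h k (Nat.lt_succ_self k),
      ih fun x hx => h x (Nat.lt_succ_of_lt hx)]

theorem norm8_congr {c d : ℕ} (h : decodeV c = decodeV d) : norm8 c = norm8 d :=
  packW_congr fun i hi => by
    have e := congrArg (fun L => ent L i) h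
    simp only [ent_decodeV _ hi] at e
    omega

/-- The check that an orbit is regular. -/
def orbitOk (p : ℕ) (ws : List (List Op)) (sep : List Op × ℕ) : Bool :=
  Nat.blt sep.2 24 && sep.1.all Op.ok && (ws.all fun w => w.all Op.ok) &&
    match appWordC sep.1 (axisC sep.2) with
    | some c => Nat.beq (orbit p ws c).length (p ^ ws.length) && nodupB (normList (orbit p ws c))
    | none => false

theorem pow_le_card {p : ℕ} {ws : List (List Op)} {sep : List Op × ℕ} (h : orbitOk p ws sep = true)
    (H : Subgroup Co0) (hws : ∀ w ∈ ws, wordElt w ∈ H) : p ^ ws.length ≤ Nat.card H := by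
  simp only [orbitOk, Bool.and_eq_true, List.all_eq_true, Nat.blt_eq] at h
  obtain ⟨⟨⟨hi, hsep⟩, hok⟩, hm⟩ := h
  split at hm
  swap
  · exact absurd hm (by simp)
  rename_i c hc
  simp only [Bool.and_eq_true, Nat.beq_eq] at hm
  obtain ⟨hlen, hnd⟩ := hm
  set u := wordElt sep.1 • eightE (Golay.pt sep.2) with hu
  have hbase : lv u = decodeV c := by
    rw [hu, lv_word (List.all_eq_true.2 hsep), lv_eightE hi, ← decodeV_axisC,
      appWordC_sound (List.all_eq_true.2 hsep) hc]
  have hiter : ∀ w : List Op, w.all Op.ok = true → wordElt w ∈ H → ∀ n x,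
      (∃ g ∈ H, lv (g • u) = decodeV x) → ∀ y ∈ iterC w n x, ∃ g ∈ H, lv (g • u) = decodeV y := by
    intro w hw hwH n
    induction n with
    | zero => intro x _ y hy; cases hy
    | succ n ih =>
      intro x hx y hy
      rw [iterC] at hy
      rcases List.mem_cons.1 hy with rfl | hy
      · exact hx
      · split at hy
        · rename_i d hd
          rw [forceNat_eq] at hy
          obtain ⟨g, hg, hgx⟩ := hx
          exact ih _ ⟨wordElt w * g, mul_mem hwH hg,
            by rw [mul_smul, lv_word hw, hgx, appWordC_sound hw hd]⟩ y hy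
        · cases hy
  have horb : ∀ l : List (List Op), (∀ w ∈ l, w.all Op.ok = true ∧ wordElt w ∈ H) →
      ∀ y ∈ orbit p l c, ∃ g ∈ H, lv (g • u) = decodeV y := by
    intro l
    induction l with
    | nil =>
      intro _ y hy
      rw [orbit, List.mem_singleton] at hy
      exact ⟨1, one_mem _, by rw [hy, one_smul, hbase]⟩
    | cons w l ih =>
      intro hl y hy
      rw [orbit, List.mem_flatMap] at hy
      obtain ⟨x, hx, hy⟩ := hy
      exact hiter w (hl w (List.mem_cons_self ..)).1 (hl w (List.mem_cons_self ..)).2 p x
        (ih (fun v hv => hl v (List.mem_cons_of_mem _ hv)) x hx) y hy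
  choose f hf hfe using fun i : Fin (orbit p ws c).length =>
    horb ws (fun w hw => ⟨List.all_eq_true.2 (hok w hw), hws w hw⟩) _ (List.getElem_mem i.isLt)
  have hnd' : ((orbit p ws c).map norm8).Nodup := normList_eq _ ▸ nodup_of_nodupB hnd
  have := Nat.card_le_card_of_injective (fun i => (⟨f i, hf i⟩ : H)) fun i j hij => Fin.ext
    ((List.Nodup.of_map norm8 hnd').getElem_inj_iff.1 (List.inj_on_of_nodup_map hnd'
      (List.getElem_mem i.isLt) (List.getElem_mem j.isLt) (by
        have e : f i = f j := congrArg Subtype.val hij
        have h1 := hfe i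
        rw [e, hfe j] at h1
        exact norm8_congr h1.symm)))
  rwa [Nat.card_fin, hlen] at this

end Cfsg.Agent.Lib.Co1Mult.Words
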